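import Cfsg.Agent.Helper64.AltPres.AffDefs
/-! (AFFMA) for S2290, architect helper64; piece by helper53: permutation facts about the translation `aP`. -/
set_option autoImplicit false
namespace Cfsg.Agent.Helper64.AltPres
open Equiv
variable (p : ℕ) [Fact p.Prime]

theorem AFFMA_aP_inf1 : aP p inf1 = inf1 := rfl

theorem AFFMA_aP_inf2 : aP p inf2 = inf2 := rfl

theorem AFFMA_aP_pt (x : ZMod p) : aP p (pt x) = pt (x + 1) := rfl

theorem AFFMA_aP_pow_inf1 (k : ℕ) : (aP p ^ k) inf1 = inf1 := by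
  induction k with
  | zero => rfl
  | succ k ih => rw [pow_succ', Perm.mul_apply, ih, AFFMA_aP_inf1]

theorem AFFMA_aP_pow_inf2 (k : ℕ) : (aP p ^ k) inf2 = inf2 := by
  induction k with
  | zero => rfl
  | succ k ih => rw [pow_succ', Perm.mul_apply, ih, AFFMA_aP_inf2]

theorem AFFMA_aP_pow_pt (k : ℕ) (x : ZMod p) : (aP p ^ k) (pt x) = pt (x + (k : ZMod p)) := by
  induction k with
  | zero => rw [pow_zero, Nat.cast_zero, add_zero]; rfl
  | succ k ih => rw [pow_succ', Perm.mul_apply, ih, AFFMA_aP_pt, Nat.cast_succ, add_assoc]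

theorem aP_pow : aP p ^ p = 1 := by
  ext x
  rcases Pt.cases x with rfl | rfl | ⟨j, rfl⟩
  · rw [AFFMA_aP_pow_inf1]; rfl
  · rw [AFFMA_aP_pow_inf2]; rfl
  · rw [AFFMA_aP_pow_pt, ZMod.natCast_self, add_zero]; rfl

theorem aP_mem (hp : p ≠ 2) : aP p ∈ alternatingGroup (Pt (ZMod p)) := by
  rw [Equiv.Perm.mem_alternatingGroup]
  have hodd : Odd p := ((Fact.out : p.Prime).eq_two_or_odd').resolve_left hp
  have h1 : Perm.sign (aP p) ^ p = 1 := by
    rw [← map_pow, aP_pow, map_one]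
  rcases Int.units_eq_one_or (Perm.sign (aP p)) with h | h
  · exact h
  · rw [h, hodd.neg_one_pow] at h1
    exact absurd h1 (by decide)

theorem aP_cyc (i : ZMod p) (k : ℕ) :
    aP p ^ k * cyc3P i * (aP p ^ k)⁻¹ = cyc3P (i + (k : ZMod p)) := by
  rw [mul_inv_eq_iff_eq_mul]
  ext y
  rcases Pt.cases y with rfl | rfl | ⟨j, rfl⟩
  · rw [Perm.mul_apply, Perm.mul_apply, cyc3P_inf1, AFFMA_aP_pow_inf2, AFFMA_aP_pow_inf1, cyc3P_inf1]
  · rw [Perm.mul_apply, Perm.mul_apply, cyc3P_inf2, AFFMA_aP_pow_pt, AFFMA_aP_pow_inf2, cyc3P_inf2]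
  · by_cases h : j = i
    · subst h
      rw [Perm.mul_apply, Perm.mul_apply, cyc3P_pt_self, AFFMA_aP_pow_inf1, AFFMA_aP_pow_pt,
        cyc3P_pt_self]
    · have h' : j + (k : ZMod p) ≠ i + (k : ZMod p) := fun e => h (add_right_cancel e)
      rw [Perm.mul_apply, Perm.mul_apply, cyc3P_pt_ne h, AFFMA_aP_pow_pt, cyc3P_pt_ne h']

end Cfsg.Agent.Helper64.AltPres
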