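import Cfsg.Agent.Helper64.AltPres.Defs

/-!
# Embeddings of alternating groups induced by embeddings of the points (for S2290)

`altEmb e : alternatingGroup X →* alternatingGroup Y` for `e : X ↪ Y` (extend by the identity), its
values, functoriality, commutation for disjoint ranges, and its effect on the 3-cycles `(∞₁ ∞₂ i)`.
-/
set_option autoImplicit false
set_option linter.unusedSectionVars false
namespace Cfsg.Agent.Helper64.AltPres
open Equiv
universe u v w

section
variable {X : Type u} {Y : Type v} {Z : Type w} [Fintype X] [DecidableEq X] [Fintype Y] [DecidableEq Y]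
  [Fintype Z] [DecidableEq Z]

theorem viaEmbedding_mem (e : X ↪ Y) (g : alternatingGroup X) :
    Perm.viaEmbeddingHom e (g : Perm X) ∈ alternatingGroup Y := by
  classical
  rw [Perm.mem_alternatingGroup, Perm.viaEmbeddingHom_apply, Perm.viaEmbedding]
  have := Perm.sign_extendDomain (g : Perm X) (Equiv.ofInjective e.1 e.2)
  have hg := Perm.mem_alternatingGroup.mp g.2
  convert this.trans hg

/-- the embedding of alternating groups induced by an embedding of the points -/
noncomputable def altEmb (e : X ↪ Y) : alternatingGroup X →* alternatingGroup Y :=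
  ((Perm.viaEmbeddingHom e).comp (alternatingGroup X).subtype).codRestrict (alternatingGroup Y)
    (fun g => viaEmbedding_mem e g)

theorem altEmb_apply (e : X ↪ Y) (g : alternatingGroup X) (x : X) :
    (altEmb e g : Perm Y) (e x) = e ((g : Perm X) x) :=
  Perm.viaEmbedding_apply (g : Perm X) e x

theorem altEmb_apply_of_notMem (e : X ↪ Y) (g : alternatingGroup X) (y : Y)
    (hy : y ∉ Set.range e) : (altEmb e g : Perm Y) y = y :=
  Perm.viaEmbedding_apply_of_notMem (g : Perm X) e y hy

theorem altEmb_trans (e : X ↪ Y) (e' : Y ↪ Z) (g : alternatingGroup X) :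
    altEmb (e.trans e') g = altEmb e' (altEmb e g) := by
  apply Subtype.ext
  ext z
  by_cases hz : z ∈ Set.range e'
  · obtain ⟨y, rfl⟩ := hz
    rw [altEmb_apply]
    by_cases hy : y ∈ Set.range e
    · obtain ⟨x, rfl⟩ := hy
      rw [altEmb_apply]
      exact altEmb_apply (e.trans e') g x
    · rw [altEmb_apply_of_notMem e g y hy]
      apply altEmb_apply_of_notMem
      rintro ⟨x, hx⟩
      exact hy ⟨x, e'.injective hx⟩
  · rw [altEmb_apply_of_notMem e' _ z hz]
    apply altEmb_apply_of_notMem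
    rintro ⟨x, hx⟩
    exact hz ⟨e x, hx⟩

theorem altEmb_commute {X' : Type w} [Fintype X'] [DecidableEq X'] (e : X ↪ Y) (e' : X' ↪ Y)
    (hdisj : ∀ x x', e x ≠ e' x') (g : alternatingGroup X) (h : alternatingGroup X') :
    Commute (altEmb e g) (altEmb e' h) := by
  apply Subtype.ext
  ext y
  show (altEmb e g : Perm Y) ((altEmb e' h : Perm Y) y) = (altEmb e' h : Perm Y) ((altEmb e g : Perm Y) y)
  by_cases hy : y ∈ Set.range e
  · obtain ⟨x, rfl⟩ := hy
    have h1 : e x ∉ Set.range e' := by rintro ⟨x', hx'⟩; exact hdisj x x' hx'.symm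
    have h2 : e ((g : Perm X) x) ∉ Set.range e' := by rintro ⟨x', hx'⟩; exact hdisj _ x' hx'.symm
    rw [altEmb_apply_of_notMem e' h _ h1, altEmb_apply, altEmb_apply_of_notMem e' h _ h2]
  · by_cases hy' : y ∈ Set.range e'
    · obtain ⟨x', rfl⟩ := hy'
      have h2 : e' ((h : Perm X') x') ∉ Set.range e := by rintro ⟨x, hx⟩; exact hdisj x _ hx
      rw [altEmb_apply_of_notMem e g _ hy, altEmb_apply, altEmb_apply_of_notMem e g _ h2]
    · rw [altEmb_apply_of_notMem e' h _ hy', altEmb_apply_of_notMem e g _ hy,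
        altEmb_apply_of_notMem e' h _ hy']

end

/-- the embedding of the points induced by an embedding of the indices -/
def ptEmb {X : Type u} {Y : Type v} (f : X ↪ Y) : Pt X ↪ Pt Y :=
  ⟨Option.map (Option.map f), Option.map_injective (Option.map_injective f.injective)⟩

@[simp] theorem ptEmb_inf1 {X : Type u} {Y : Type v} (f : X ↪ Y) : ptEmb f inf1 = inf1 := rfl
@[simp] theorem ptEmb_inf2 {X : Type u} {Y : Type v} (f : X ↪ Y) : ptEmb f inf2 = inf2 := rfl
@[simp] theorem ptEmb_pt {X : Type u} {Y : Type v} (f : X ↪ Y) (i : X) : ptEmb f (pt i) = pt (f i) := rfl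

/-- the points as an embedding -/
def ptE {X : Type u} : X ↪ Pt X := ⟨pt, fun _ _ h => by simpa [pt] using h⟩

@[simp] theorem ptE_apply {X : Type u} (x : X) : ptE x = pt x := rfl

section
variable {X : Type u} {Y : Type v} [Fintype X] [DecidableEq X] [Fintype Y] [DecidableEq Y]

/-- conjugating the 3-cycle `(∞₁ ∞₂ i)` by a permutation fixing `∞₁`, `∞₂` -/
theorem conj_cyc3P (σ : Perm (Pt X)) (h1 : σ inf1 = inf1) (h2 : σ inf2 = inf2) (i j : X)
    (hij : σ (pt i) = pt j) : σ * cyc3P i * σ⁻¹ = cyc3P j := by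
  rw [mul_inv_eq_iff_eq_mul]
  ext x
  simp only [Perm.mul_apply]
  rcases Pt.cases x with rfl | rfl | ⟨k, rfl⟩
  · simp [h1, h2]
  · simp [h2, hij]
  · by_cases hk : k = i
    · subst hk; simp [hij, h1]
    · have hne : σ (pt k) ≠ pt j := fun h => hk (by
        have := σ.injective (h.trans hij.symm); simpa using this)
      have hne1 : σ (pt k) ≠ inf1 := fun h => by
        have := σ.injective (h.trans h1.symm); simp at this
      have hne2 : σ (pt k) ≠ inf2 := fun h => by
        have := σ.injective (h.trans h2.symm); simp at this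
      rcases Pt.cases (σ (pt k)) with h | h | ⟨l, hl⟩
      · exact absurd h hne1
      · exact absurd h hne2
      · rw [cyc3P_pt_ne hk, hl, cyc3P_pt_ne]
        rintro rfl; exact hne hl

theorem altEmb_ptEmb_cyc3 (f : X ↪ Y) (i : X) : altEmb (ptEmb f) (cyc3 i) = cyc3 (f i) := by
  apply Subtype.ext
  ext y
  by_cases hy : y ∈ Set.range (ptEmb f)
  · obtain ⟨x, rfl⟩ := hy
    rw [altEmb_apply]
    rcases Pt.cases x with rfl | rfl | ⟨k, rfl⟩
    · simp
    · simp
    · by_cases hk : k = i
      · subst hk; simp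
      · have : f k ≠ f i := fun h => hk (f.injective h)
        simp [cyc3P_pt_ne hk, cyc3P_pt_ne this]
  · rw [altEmb_apply_of_notMem _ _ _ hy]
    rcases Pt.cases y with rfl | rfl | ⟨k, rfl⟩
    · exact absurd ⟨inf1, rfl⟩ hy
    · exact absurd ⟨inf2, rfl⟩ hy
    · have : k ≠ f i := by rintro rfl; exact hy ⟨pt i, rfl⟩
      simp [cyc3P_pt_ne this]

/-- the alternating group of the ordinary points acts on the 3-cycles `(∞₁ ∞₂ i)` -/
theorem altEmb_ptE_conj (g : alternatingGroup X) (i : X) :
    altEmb ptE g * cyc3 i * (altEmb ptE g)⁻¹ = cyc3 ((g : Perm X) i) := by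
  apply Subtype.ext
  have h1 : (altEmb ptE g : Perm (Pt X)) inf1 = inf1 :=
    altEmb_apply_of_notMem _ _ _ (by rintro ⟨x, hx⟩; simp at hx)
  have h2 : (altEmb ptE g : Perm (Pt X)) inf2 = inf2 :=
    altEmb_apply_of_notMem _ _ _ (by rintro ⟨x, hx⟩; simp at hx)
  have h3 : (altEmb ptE g : Perm (Pt X)) (pt i) = pt ((g : Perm X) i) := altEmb_apply ptE g i
  exact conj_cyc3P _ h1 h2 i _ h3

/-- the alternating group of a set of ordinary points acts on the 3-cycles `(∞₁ ∞₂ i)` -/
theorem altEmb_conj (f : X ↪ Y) (g : alternatingGroup X) (i : X) :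
    altEmb (f.trans ptE) g * cyc3 (f i) * (altEmb (f.trans ptE) g)⁻¹ = cyc3 (f ((g : Perm X) i)) := by
  apply Subtype.ext
  have h1 : (altEmb (f.trans ptE) g : Perm (Pt Y)) inf1 = inf1 :=
    altEmb_apply_of_notMem _ _ _ (by rintro ⟨x, hx⟩; simp at hx)
  have h2 : (altEmb (f.trans ptE) g : Perm (Pt Y)) inf2 = inf2 :=
    altEmb_apply_of_notMem _ _ _ (by rintro ⟨x, hx⟩; simp at hx)
  have h3 : (altEmb (f.trans ptE) g : Perm (Pt Y)) (pt (f i)) = pt (f ((g : Perm X) i)) :=
    altEmb_apply (f.trans ptE) g i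
  exact conj_cyc3P _ h1 h2 _ _ h3

end

end Cfsg.Agent.Helper64.AltPres
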