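import Cfsg.Agent.Helper64.AltPres.P_AFFMA
import Cfsg.Agent.Helper64.AltPres.AltEmb
/-! (AFFMB) for S2290: permutation facts about the (sign-corrected) multiplication `bP`. -/
set_option autoImplicit false
set_option linter.unusedSimpArgs false
set_option linter.unusedSectionVars false
namespace Cfsg.Agent.Helper64.AltPres
open Equiv
variable (p : ℕ) [Fact p.Prime]

/-- multiplication by `r` on the ordinary points -/
def AFFMB_L (r : (ZMod p)ˣ) : Perm (Pt (ZMod p)) :=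
  Equiv.optionCongr (Equiv.optionCongr (Units.mulLeft r))

theorem AFFMB_L_inf1 (r : (ZMod p)ˣ) : AFFMB_L p r inf1 = inf1 := rfl
theorem AFFMB_L_inf2 (r : (ZMod p)ˣ) : AFFMB_L p r inf2 = inf2 := rfl
theorem AFFMB_L_pt (r : (ZMod p)ˣ) (x : ZMod p) : AFFMB_L p r (pt x) = pt ((r : ZMod p) * x) := rfl

theorem AFFMB_bP_eq (r : (ZMod p)ˣ) : bP p r = sgnFix p r * AFFMB_L p r := rfl

theorem AFFMB_sign_L (r : (ZMod p)ˣ) : Perm.sign (AFFMB_L p r) = Perm.sign (Units.mulLeft r) := by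
  unfold AFFMB_L
  rw [Equiv.optionCongr_sign, Equiv.optionCongr_sign]

theorem bP_mem (r : (ZMod p)ˣ) : bP p r ∈ alternatingGroup (Pt (ZMod p)) := by
  rw [Equiv.Perm.mem_alternatingGroup, AFFMB_bP_eq, Perm.sign_mul, AFFMB_sign_L]
  unfold sgnFix
  split_ifs with h
  · rw [h]; simp
  · have h' : Perm.sign (Units.mulLeft r) = -1 :=
      (Int.units_eq_one_or _).resolve_left h
    rw [h', Perm.sign_swap (by simp)]; simp

theorem AFFMB_L_conj_cyc (r : (ZMod p)ˣ) :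
    AFFMB_L p r * cyc3P (0 : ZMod p) * (AFFMB_L p r)⁻¹ = cyc3P (0 : ZMod p) := by
  apply conj_cyc3P _ (AFFMB_L_inf1 p r) (AFFMB_L_inf2 p r)
  rw [AFFMB_L_pt, mul_zero]

theorem AFFMB_swap_conj_cyc (i : ZMod p) :
    swap (inf1 : Pt (ZMod p)) inf2 * cyc3P i * (swap (inf1 : Pt (ZMod p)) inf2)⁻¹ = (cyc3P i)⁻¹ := by
  rw [eq_inv_iff_mul_eq_one, swap_inv]
  ext x
  rcases Pt.cases x with rfl | rfl | ⟨j, rfl⟩
  · simp [Perm.mul_apply, swap_apply_of_ne_of_ne]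
  · simp [Perm.mul_apply, swap_apply_of_ne_of_ne]
  · by_cases h : j = i
    · subst h; simp [Perm.mul_apply, swap_apply_of_ne_of_ne]
    · simp [Perm.mul_apply, swap_apply_of_ne_of_ne, cyc3P_pt_ne h]

theorem bP_cyc (r : (ZMod p)ˣ) :
    bP p r * cyc3P (0 : ZMod p) * (bP p r)⁻¹ = cyc3P (0 : ZMod p) ^ epsOf p r := by
  rw [AFFMB_bP_eq]
  unfold sgnFix epsOf
  split_ifs with h
  · rw [one_mul, zpow_one]; exact AFFMB_L_conj_cyc p r
  · rw [zpow_neg_one, mul_inv_rev]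
    have : swap (inf1 : Pt (ZMod p)) inf2 * AFFMB_L p r * cyc3P 0 *
        ((AFFMB_L p r)⁻¹ * (swap (inf1 : Pt (ZMod p)) inf2)⁻¹) =
        swap (inf1 : Pt (ZMod p)) inf2 * (AFFMB_L p r * cyc3P 0 * (AFFMB_L p r)⁻¹) *
          (swap (inf1 : Pt (ZMod p)) inf2)⁻¹ := by
      simp only [mul_assoc]
    rw [this, AFFMB_L_conj_cyc, AFFMB_swap_conj_cyc]

theorem AFFMB_sgnFix_cases (r : (ZMod p)ˣ) :
    (sgnFix p r inf1 = inf1 ∧ sgnFix p r inf2 = inf2) ∨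
      (sgnFix p r inf1 = inf2 ∧ sgnFix p r inf2 = inf1) := by
  unfold sgnFix
  split_ifs with h
  · exact Or.inl ⟨rfl, rfl⟩
  · exact Or.inr ⟨by simp, by simp⟩

theorem AFFMB_sgnFix_pt (r : (ZMod p)ˣ) (x : ZMod p) : sgnFix p r (pt x) = pt x := by
  unfold sgnFix
  split_ifs with h
  · rfl
  · exact swap_apply_of_ne_of_ne (by simp) (by simp)

theorem bP_aP (r : (ZMod p)ˣ) : bP p r * aP p * (bP p r)⁻¹ = aP p ^ (r : ZMod p).val := by
  rw [mul_inv_eq_iff_eq_mul, AFFMB_bP_eq]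
  ext x
  simp only [Perm.mul_apply]
  rcases Pt.cases x with rfl | rfl | ⟨j, rfl⟩
  · rw [AFFMA_aP_inf1, AFFMB_L_inf1]
    rcases AFFMB_sgnFix_cases p r with ⟨h1, -⟩ | ⟨h1, -⟩
    · rw [h1, AFFMA_aP_pow_inf1]
    · rw [h1, AFFMA_aP_pow_inf2]
  · rw [AFFMA_aP_inf2, AFFMB_L_inf2]
    rcases AFFMB_sgnFix_cases p r with ⟨-, h2⟩ | ⟨-, h2⟩
    · rw [h2, AFFMA_aP_pow_inf2]
    · rw [h2, AFFMA_aP_pow_inf1]
  · rw [AFFMA_aP_pt, AFFMB_L_pt, AFFMB_L_pt, AFFMB_sgnFix_pt, AFFMB_sgnFix_pt, AFFMA_aP_pow_pt,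
      ZMod.natCast_zmod_val]
    rw [mul_add, mul_one]

end Cfsg.Agent.Helper64.AltPres
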