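import Cfsg.Agent.Helper64.AltPres.AffDefs
/-! (AFFR) for S2290, architect helper64 (piece by helper47).  Pure abstract group theory.

`ccw p a c i = a ^ i.val * c * (a ^ i.val)⁻¹ =: c_i`.  Since a ^ p = 1, c_{i+k} = a ^ i.val * c_k * (a ^ i.val)⁻¹ and
(c_i * c_j)² is conjugate to (c * c_{j-i})²; j - i ≠ 0 is a unit k = r ^ n.
P(k) : (c * c_k)² = 1.  P(1) is `h01`.  P(k) → P(r * k): conjugate by b. -/
set_option autoImplicit false
namespace Cfsg.Agent.Helper64.AltPres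
universe u
variable (p : ℕ) [Fact p.Prime]

theorem AFFR_pow_mod {D : Type u} [Group D] (a : D) (ha : a ^ p = 1) (n : ℕ) : a ^ n = a ^ (n % p) := by
  conv_lhs => rw [← Nat.div_add_mod n p, pow_add, pow_mul, ha, one_pow, one_mul]

/-- `(c⁻¹ d⁻¹)² = 1 → (c d)² = 1` -/
theorem AFFR_inv_sq {D : Type u} [Group D] (c d : D) (h : (c⁻¹ * d⁻¹) ^ 2 = 1) : (c * d) ^ 2 = 1 := by
  have h1 : (d * c) ^ 2 = 1 := by
    have h2 : ((c⁻¹ * d⁻¹) ^ 2)⁻¹ = (d * c) ^ 2 := by rw [pow_two, pow_two]; group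
    rw [← h2, h, inv_one]
  calc (c * d) ^ 2 = c * (d * c) ^ 2 * c⁻¹ := by rw [pow_two, pow_two]; group
    _ = 1 := by rw [h1]; group

/-- the step `P(x) → P(r x)` -/
theorem AFFR_step {D : Type u} [Group D] (r : (ZMod p)ˣ) (a b c : D) (ε : ℤ) (hε : ε = 1 ∨ ε = -1)
    (ha : a ^ p = 1) (hba : b * a * b⁻¹ = a ^ (r : ZMod p).val) (hbc : b * c * b⁻¹ = c ^ ε)
    (x : ZMod p) (hx : (c * ccw p a c x) ^ 2 = 1) : (c * ccw p a c ((r : ZMod p) * x)) ^ 2 = 1 := by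
  have hbam : b * a ^ x.val * b⁻¹ = a ^ ((r : ZMod p).val * x.val) := by
    rw [← conj_pow, hba, ← pow_mul]
  have hd : ccw p a c ((r : ZMod p) * x)
      = a ^ ((r : ZMod p).val * x.val) * c * (a ^ ((r : ZMod p).val * x.val))⁻¹ := by
    unfold ccw
    rw [ZMod.val_mul, ← AFFR_pow_mod p a ha]
  have hconj : b * ccw p a c x * b⁻¹ = (ccw p a c ((r : ZMod p) * x)) ^ ε := by
    rw [hd, conj_zpow, ← hbc, ← hbam]
    unfold ccw
    group
  have hsq : (c ^ ε * (ccw p a c ((r : ZMod p) * x)) ^ ε) ^ 2 = 1 := by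
    have h1 : b * (c * ccw p a c x) ^ 2 * b⁻¹ = (c ^ ε * (ccw p a c ((r : ZMod p) * x)) ^ ε) ^ 2 := by
      rw [← hbc, ← hconj, pow_two, pow_two]
      group
    rw [← h1, hx, mul_one, mul_inv_cancel]
  rcases hε with rfl | rfl
  · simpa using hsq
  · apply AFFR_inv_sq
    simpa using hsq

theorem aff_rel {D : Type u} [Group D] (r : (ZMod p)ˣ) (hr : ∀ k : (ZMod p)ˣ, ∃ n : ℕ, r ^ n = k)
    (a b c : D) (ε : ℤ) (hε : ε = 1 ∨ ε = -1) (ha : a ^ p = 1)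
    (hba : b * a * b⁻¹ = a ^ (r : ZMod p).val) (hc : c ^ 3 = 1) (hbc : b * c * b⁻¹ = c ^ ε)
    (h01 : (c * (a * c * a⁻¹)) ^ 2 = 1) :
    ∀ i j : ZMod p, i ≠ j → (ccw p a c i * ccw p a c j) ^ 2 = 1 := by
  intro i j hij
  obtain ⟨x, hxdef⟩ : ∃ x : ZMod p, x = j - i := ⟨_, rfl⟩
  have hx : x ≠ 0 := by rw [hxdef]; exact sub_ne_zero.2 (Ne.symm hij)
  have hP : ∀ n : ℕ, (c * ccw p a c ((r : ZMod p) ^ n)) ^ 2 = 1 := by
    intro n
    induction n with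
    | zero =>
      rw [pow_zero]
      unfold ccw
      rw [ZMod.val_one, pow_one]
      exact h01
    | succ n ih =>
      have e : (r : ZMod p) ^ (n + 1) = (r : ZMod p) * (r : ZMod p) ^ n := pow_succ' _ _
      rw [e]
      exact AFFR_step p r a b c ε hε ha hba hbc _ ih
  obtain ⟨n, hn⟩ := hr (Units.mk0 x hx)
  have hxn : x = (r : ZMod p) ^ n := by
    have h1 := congrArg Units.val hn
    rw [Units.val_pow_eq_pow_val, Units.val_mk0] at h1
    exact h1.symm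
  have hPx := hP n
  rw [← hxn] at hPx
  have hj : ccw p a c j = a ^ i.val * ccw p a c x * (a ^ i.val)⁻¹ := by
    have hjx : j = i + x := by rw [hxdef]; ring
    unfold ccw
    rw [hjx, ZMod.val_add, ← AFFR_pow_mod p a ha, pow_add]
    group
  have hi : ccw p a c i = a ^ i.val * c * (a ^ i.val)⁻¹ := rfl
  rw [hj, hi]
  calc (a ^ i.val * c * (a ^ i.val)⁻¹ * (a ^ i.val * ccw p a c x * (a ^ i.val)⁻¹)) ^ 2
      = a ^ i.val * (c * ccw p a c x) ^ 2 * (a ^ i.val)⁻¹ := by rw [pow_two, pow_two]; group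
    _ = 1 := by rw [hPx]; group

end Cfsg.Agent.Helper64.AltPres
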