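import Cfsg.Agent.Helper64.AltPres.Car
import Cfsg.Agent.Helper64.AltPres.P_AFFMA
import Cfsg.Agent.Helper64.AltPres.P_AFFMB
import Cfsg.Agent.Helper64.AltPres.P_AFFR

/-!
# The affine presentation of `A_{p+2}` on 3 generators and 7 relators (for S2290)
-/

set_option autoImplicit false
namespace Cfsg.Agent.Helper64.AltPres
open Equiv
universe u v w

/-- (AFFF) the affine presentation of `A_{p+2}` -/
theorem affine_pres (p : ℕ) [Fact p.Prime] (hp : p ≠ 2) :
    ∃ rels : Finset (FreeGroup (Fin 3)), rels.card ≤ 7 ∧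
      Nonempty (PresentedGroup (↑rels : Set (FreeGroup (Fin 3))) ≃*
        alternatingGroup (Pt (ZMod p))) := by
  classical
  obtain ⟨r, hr⟩ := IsCyclic.exists_monoid_generator (α := (ZMod p)ˣ)
  have hr' : ∀ k : (ZMod p)ˣ, ∃ n : ℕ, r ^ n = k := fun k => by
    obtain ⟨n, hn⟩ := hr k; exact ⟨n, hn⟩
  let A : FreeGroup (Fin 3) := FreeGroup.of 0
  let B : FreeGroup (Fin 3) := FreeGroup.of 1
  let C : FreeGroup (Fin 3) := FreeGroup.of 2
  let aA : alternatingGroup (Pt (ZMod p)) := ⟨aP p, aP_mem p hp⟩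
  let bA : alternatingGroup (Pt (ZMod p)) := ⟨bP p r, bP_mem p r⟩
  let cA : alternatingGroup (Pt (ZMod p)) := cyc3 (0 : ZMod p)
  let μ : FreeGroup (Fin 3) →* alternatingGroup (Pt (ZMod p)) := FreeGroup.lift ![aA, bA, cA]
  have hμA : μ A = aA := by simp [μ, A]
  have hμB : μ B = bA := by simp [μ, B]
  have hμC : μ C = cA := by simp [μ, C]
  have hμCC : ∀ i : ZMod p, μ (ccw p A C i) = cyc3 i := by
    intro i
    apply Subtype.ext
    simp only [ccw, map_mul, map_pow, map_inv, hμA, hμC]
    have := aP_cyc p (0 : ZMod p) i.val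
    simpa [aA, cA] using this
  have hgen : ∀ g : alternatingGroup (Pt (ZMod p)),
      ∃ w ∈ Subgroup.closure (Set.range (ccw p A C)), μ w = g := by
    intro g
    have h1 : (Subgroup.closure (Set.range (ccw p A C))).map μ = ⊤ := by
      rw [MonoidHom.map_closure, ← Set.range_comp]
      have : (μ ∘ ccw p A C) = cyc3 := funext hμCC
      rw [this, closure_cyc3]
    have : g ∈ (Subgroup.closure (Set.range (ccw p A C))).map μ := by rw [h1]; trivial
    obtain ⟨w, hw, hwg⟩ := this
    exact ⟨w, hw, hwg⟩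
  obtain ⟨Wa, hWa, hWa'⟩ := hgen aA
  obtain ⟨Wb, hWb, hWb'⟩ := hgen bA
  let relf : Fin 7 → FreeGroup (Fin 3) :=
    ![A ^ p, B * A * B⁻¹ * (A ^ (r : ZMod p).val)⁻¹, C ^ 3, B * C * B⁻¹ * (C ^ epsOf p r)⁻¹,
      (C * (A * C * A⁻¹)) ^ 2, A⁻¹ * Wa, B⁻¹ * Wb]
  refine ⟨Finset.univ.image relf, (Finset.card_image_le).trans (by simp), ?_⟩
  set rels : Set (FreeGroup (Fin 3)) := ↑(Finset.univ.image relf) with hrels
  have hmem : ∀ k, relf k ∈ rels := fun k => by
    rw [hrels]; exact Finset.mem_coe.mpr (Finset.mem_image_of_mem _ (Finset.mem_univ k))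
  have hone : ∀ k, PresentedGroup.mk rels (relf k) = 1 := fun k => PresentedGroup.one_of_mem (hmem k)
  -- the relations in the presented group
  set a : PresentedGroup rels := PresentedGroup.mk rels A with ha
  set b : PresentedGroup rels := PresentedGroup.mk rels B with hb
  set c : PresentedGroup rels := PresentedGroup.mk rels C with hc
  have r0 : a ^ p = 1 := by simpa [relf] using hone 0
  have r1 : b * a * b⁻¹ = a ^ (r : ZMod p).val := by
    have := hone 1
    simp only [relf, Matrix.cons_val_one, Matrix.cons_val_zero, map_mul, map_inv, map_pow] at this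
    exact mul_inv_eq_one.mp this
  have r2 : c ^ 3 = 1 := by simpa [relf] using hone 2
  have r3 : b * c * b⁻¹ = c ^ epsOf p r := by
    have := hone 3
    simp only [relf, Matrix.cons_val, map_mul, map_inv, map_zpow] at this
    exact mul_inv_eq_one.mp this
  have r4 : (c * (a * c * a⁻¹)) ^ 2 = 1 := by simpa [relf] using hone 4
  have r5 : a = PresentedGroup.mk rels Wa := by
    have := hone 5
    simp only [relf, Matrix.cons_val, map_mul, map_inv] at this
    exact inv_mul_eq_one.mp this
  have r6 : b = PresentedGroup.mk rels Wb := by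
    have := hone 6
    simp only [relf, Matrix.cons_val, map_mul, map_inv] at this
    exact inv_mul_eq_one.mp this
  have hmkCC : ∀ i, PresentedGroup.mk rels (ccw p A C i) = ccw p a c i := by
    intro i; simp [ccw, ha, hc]
  have hrel := aff_rel p r hr' a b c (epsOf p r) (epsOf_eq p r) r0 r1 r2 r3 r4
  refine presented_equiv_alt rels μ ?_ (ccw p A C) hμCC ?_ ?_ ?_
  · -- the relators hold in the model
    intro w hw
    rw [hrels] at hw
    obtain ⟨k, -, rfl⟩ := Finset.mem_image.mp (Finset.mem_coe.mp hw)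
    fin_cases k
    · show μ (A ^ p) = 1
      rw [map_pow, hμA]; exact Subtype.ext (by simpa [aA] using aP_pow p)
    · show μ (B * A * B⁻¹ * (A ^ (r : ZMod p).val)⁻¹) = 1
      rw [map_mul, map_inv, map_pow, map_mul, map_mul, map_inv, hμA, hμB, mul_inv_eq_one]
      exact Subtype.ext (by simpa [aA, bA] using bP_aP p r)
    · show μ (C ^ 3) = 1
      rw [map_pow, hμC]; exact Subtype.ext (by simpa [cA] using cyc3P_cube (0 : ZMod p))
    · show μ (B * C * B⁻¹ * (C ^ epsOf p r)⁻¹) = 1
      rw [map_mul, map_inv, map_zpow, map_mul, map_mul, map_inv, hμC, hμB, mul_inv_eq_one]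
      exact Subtype.ext (by simpa [cA, bA] using bP_cyc p r)
    · show μ ((C * (A * C * A⁻¹)) ^ 2) = 1
      have h1 : A * C * A⁻¹ = ccw p A C 1 := by
        simp [ccw, ZMod.val_one]
      have h0 : C = ccw p A C 0 := by simp [ccw]
      rw [h1, map_pow, map_mul, hμCC, hμC]
      apply Subtype.ext
      have : (0 : ZMod p) ≠ 1 := zero_ne_one
      simpa [cA] using cyc3P_mul_sq this
    · show μ (A⁻¹ * Wa) = 1
      rw [map_mul, map_inv, hμA, hWa', inv_mul_cancel]
    · show μ (B⁻¹ * Wb) = 1
      rw [map_mul, map_inv, hμB, hWb', inv_mul_cancel]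
  · intro i
    rw [hmkCC]
    simp only [ccw]
    rw [conj_pow, r2]; simp
  · intro i j hij
    rw [hmkCC, hmkCC]; exact hrel i j hij
  · have hcl : ∀ w ∈ Subgroup.closure (Set.range (ccw p A C)), PresentedGroup.mk rels w ∈
        Subgroup.closure (Set.range fun i => PresentedGroup.mk rels (ccw p A C i)) := by
      intro w hw
      have : PresentedGroup.mk rels w ∈ (Subgroup.closure (Set.range (ccw p A C))).map
          (PresentedGroup.mk rels) := ⟨w, hw, rfl⟩
      rw [MonoidHom.map_closure, ← Set.range_comp] at this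
      exact this
    intro x
    fin_cases x
    · show a ∈ _
      rw [r5]; exact hcl _ hWa
    · show b ∈ _
      rw [r6]; exact hcl _ hWb
    · show c ∈ _
      apply Subgroup.subset_closure
      refine ⟨0, ?_⟩
      simp [ccw, hc]

end Cfsg.Agent.Helper64.AltPres
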