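import Cfsg.Agent.Helper64.AltPres.Defs

/-!
# The affine presentation of `A_{p+2}` (for S2290): definitions

Points `Pt (ZMod p)`; `aP` is `x ↦ x + 1`, `bP r` is `x ↦ r * x` corrected by the transposition
`(∞₁ ∞₂)` if necessary to make it even, `cyc3P 0 = (∞₁ ∞₂ 0)`.
-/

set_option autoImplicit false

namespace Cfsg.Agent.Helper64.AltPres
open Equiv
universe u

section
variable (p : ℕ) [Fact p.Prime]

/-- translation by one on the affine line, fixing the two extra points -/
def aP : Perm (Pt (ZMod p)) := Equiv.optionCongr (Equiv.optionCongr (Equiv.addRight (1 : ZMod p)))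

/-- the sign correction -/
def sgnFix (r : (ZMod p)ˣ) : Perm (Pt (ZMod p)) :=
  if Perm.sign (Units.mulLeft r) = 1 then 1 else swap inf1 inf2

/-- the exponent in `b c b⁻¹ = c ^ ε` -/
def epsOf (r : (ZMod p)ˣ) : ℤ := if Perm.sign (Units.mulLeft r) = 1 then 1 else -1

/-- multiplication by `r`, corrected to an even permutation -/
def bP (r : (ZMod p)ˣ) : Perm (Pt (ZMod p)) :=
  sgnFix p r * Equiv.optionCongr (Equiv.optionCongr (Units.mulLeft r))

theorem epsOf_eq (r : (ZMod p)ˣ) : epsOf p r = 1 ∨ epsOf p r = -1 := by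
  unfold epsOf; split_ifs <;> simp

/-- the conjugates of `c` by powers of `a` -/
def ccw {D : Type u} [Group D] (a c : D) (i : ZMod p) : D := a ^ i.val * c * (a ^ i.val)⁻¹

end

end Cfsg.Agent.Helper64.AltPres
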