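import Cfsg.Agent.Helper64.AltPres.Defs
/-! (CARC) for S2290, architect helper64 (piece by helper48): Carmichael's coset enumeration.
`Car ι = ⟨x_i | x_i³, (x_i x_j)² (i ≠ j)⟩`, `H = range (Car.map f hf)`, transversal `tval f i₀`:
`1, x, x², x * y_j⁻¹`. -/
set_option autoImplicit false
namespace Cfsg.Agent.Helper64.AltPres
open Equiv
universe u

section words
variable {G : Type*} [Group G]

theorem CARC_inv_eq_sq {x : G} (hx : x ^ 3 = 1) : x⁻¹ = x * x := by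
  rw [pow_succ, pow_two] at hx
  exact inv_eq_of_mul_eq_one_left hx

theorem CARC_inv_mul_inv {x : G} (hx : x ^ 3 = 1) : x⁻¹ * x⁻¹ = x := by
  rw [CARC_inv_eq_sq hx]
  rw [pow_succ, pow_two] at hx
  calc x * x * (x * x) = (x * x * x) * x := by group
    _ = x := by rw [hx, one_mul]

theorem CARC_mul_eq {x y : G} (hxy : (x * y) ^ 2 = 1) : x * y = y⁻¹ * x⁻¹ := by
  rw [pow_two] at hxy
  rw [← mul_inv_rev]
  exact (inv_eq_of_mul_eq_one_left hxy).symm

theorem CARC_mul_eq' {x y : G} (hxy : (x * y) ^ 2 = 1) : y * x = x⁻¹ * y⁻¹ := by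
  apply CARC_mul_eq
  rw [pow_two] at hxy ⊢
  have : y * x * (y * x) = x⁻¹ * (x * y * (x * y)) * x := by group
  rw [this, hxy]
  group

/-- `x * y = Y * x²` -/
theorem CARC_w1 {x y : G} (hx : x ^ 3 = 1) (hxy : (x * y) ^ 2 = 1) : x * y = y⁻¹ * x ^ 2 := by
  rw [CARC_mul_eq hxy, CARC_inv_eq_sq hx, pow_two]

/-- `x² * y = y * (x * Y)` -/
theorem CARC_w2 {x y : G} (hx : x ^ 3 = 1) (hy : y ^ 3 = 1) (hxy : (x * y) ^ 2 = 1) :
    x ^ 2 * y = y * (x * y⁻¹) := by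
  have h1 : x ^ 2 = x⁻¹ := by rw [CARC_inv_eq_sq hx, pow_two]
  rw [h1]
  calc x⁻¹ * y = (x⁻¹ * y⁻¹) * (y * y) := by group
    _ = (y * x) * y⁻¹ := by rw [← CARC_mul_eq' hxy, ← CARC_inv_eq_sq hy]
    _ = y * (x * y⁻¹) := by group

/-- `(x * Y) * x = Y * (x * Y)` -/
theorem CARC_w3 {x y : G} (hx : x ^ 3 = 1) (hy : y ^ 3 = 1) (hxy : (x * y) ^ 2 = 1) :
    x * y⁻¹ * x = y⁻¹ * (x * y⁻¹) := by
  calc x * y⁻¹ * x = x * (y * y) * x := by rw [CARC_inv_eq_sq hy]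
    _ = (x * y) * (y * x) := by group
    _ = (y⁻¹ * x⁻¹) * (x⁻¹ * y⁻¹) := by rw [CARC_mul_eq hxy, CARC_mul_eq' hxy]
    _ = y⁻¹ * (x⁻¹ * x⁻¹) * y⁻¹ := by group
    _ = y⁻¹ * (x * y⁻¹) := by rw [CARC_inv_mul_inv hx]; group

/-- `(x * Y) * z = (Y * z) * (x * Y)` -/
theorem CARC_w4 {x y z : G} (hy : y ^ 3 = 1) (hxy : (x * y) ^ 2 = 1)
    (hxz : (x * z) ^ 2 = 1) (hyz : (y * z) ^ 2 = 1) :
    x * y⁻¹ * z = (y⁻¹ * z) * (x * y⁻¹) := by
  symm
  calc (y⁻¹ * z) * (x * y⁻¹) = y⁻¹ * (z * x) * y⁻¹ := by group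
    _ = y⁻¹ * (x⁻¹ * z⁻¹) * y⁻¹ := by rw [CARC_mul_eq' hxz]
    _ = (y⁻¹ * x⁻¹) * (z⁻¹ * y⁻¹) := by group
    _ = (x * y) * (y * z) := by rw [← CARC_mul_eq hxy, ← CARC_mul_eq hyz]
    _ = x * (y * y) * z := by group
    _ = x * y⁻¹ * z := by rw [← CARC_inv_eq_sq hy]

end words

/-- one step of the coset enumeration -/
theorem CARC_step {ι₀ ι : Type u} (f : ι₀ → ι) (hf : Function.Injective f) (i₀ : ι)
    (h0 : ∀ j, f j ≠ i₀) (t : Option (Option (Option ι₀))) :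
    (∃ (h' : Car ι₀) (t' : Option (Option (Option ι₀))),
      tval f i₀ t * Car.x i₀ = Car.map f hf h' * tval f i₀ t') ∧
    ∀ k : ι₀, ∃ (h' : Car ι₀) (t' : Option (Option (Option ι₀))),
      tval f i₀ t * Car.x (f k) = Car.map f hf h' * tval f i₀ t' := by
  have hx : Car.x i₀ ^ 3 = 1 := Car.x_cube i₀
  have hy : ∀ j, Car.x (f j) ^ 3 = 1 := fun j => Car.x_cube (f j)
  have hxy : ∀ j, (Car.x i₀ * Car.x (f j)) ^ 2 = 1 := fun j => Car.x_mul_sq (h0 j).symm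
  rcases t with _ | _ | _ | j
  · -- t = 1
    refine ⟨⟨1, some none, ?_⟩, fun k => ⟨Car.x k, none, ?_⟩⟩
    · simp [tval]
    · simp [tval]
  · -- t = x
    refine ⟨⟨1, some (some none), ?_⟩, fun k => ⟨(Car.x k)⁻¹, some (some none), ?_⟩⟩
    · simp [tval, pow_two]
    · simp only [tval, map_inv, Car.map_x]
      exact CARC_w1 hx (hxy k)
  · -- t = x²
    refine ⟨⟨1, none, ?_⟩, fun k => ⟨Car.x k, some (some (some k)), ?_⟩⟩
    · simp only [tval, map_one, mul_one]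
      rw [← pow_succ]
      exact hx
    · simp only [tval, Car.map_x]
      exact CARC_w2 hx (hy k) (hxy k)
  · -- t = x * y_j⁻¹
    refine ⟨⟨(Car.x j)⁻¹, some (some (some j)), ?_⟩, fun k => ?_⟩
    · simp only [tval, map_inv, Car.map_x]
      exact CARC_w3 hx (hy j) (hxy j)
    · by_cases hkj : k = j
      · subst hkj
        refine ⟨1, some none, ?_⟩
        simp [tval]
      · refine ⟨(Car.x j)⁻¹ * Car.x k, some (some (some j)), ?_⟩
        simp only [tval, map_mul, map_inv, Car.map_x]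
        have hjk : f j ≠ f k := fun h => hkj (hf h).symm
        exact CARC_w4 (hy j) (hxy j) (hxy k) (Car.x_mul_sq hjk)

theorem coset_closure {ι₀ ι : Type u} (f : ι₀ → ι) (hf : Function.Injective f) (i₀ : ι)
    (hcover : ∀ i, i = i₀ ∨ ∃ j, f j = i) (h0 : ∀ j, f j ≠ i₀) (g : Car ι) :
    ∃ (h : Car ι₀) (t : Option (Option (Option ι₀))), g = Car.map f hf h * tval f i₀ t := by
  -- right multiplication by a generator
  have hmul : ∀ (g : Car ι) (i : ι),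
      (∃ (h : Car ι₀) (t : Option (Option (Option ι₀))), g = Car.map f hf h * tval f i₀ t) →
      ∃ (h : Car ι₀) (t : Option (Option (Option ι₀))),
        g * Car.x i = Car.map f hf h * tval f i₀ t := by
    rintro g i ⟨h, t, rfl⟩
    have hs := CARC_step f hf i₀ h0 t
    rcases hcover i with rfl | ⟨k, rfl⟩
    · obtain ⟨h', t', e⟩ := hs.1
      exact ⟨h * h', t', by rw [mul_assoc, e, map_mul, mul_assoc]⟩
    · obtain ⟨h', t', e⟩ := hs.2 k
      exact ⟨h * h', t', by rw [mul_assoc, e, map_mul, mul_assoc]⟩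
  have hg : g ∈ Subgroup.closure (Set.range (Car.x (ι := ι))) := by
    rw [Car.closure_x]
    exact Subgroup.mem_top g
  induction hg using Subgroup.closure_induction_right with
  | one => exact ⟨1, none, by simp [tval]⟩
  | mul_right g _ y hy ih =>
    obtain ⟨i, rfl⟩ := hy
    exact hmul g i ih
  | mul_inv_cancel g _ y hy ih =>
    obtain ⟨i, rfl⟩ := hy
    have e : (Car.x i)⁻¹ = Car.x i * Car.x i := CARC_inv_eq_sq (Car.x_cube i)
    rw [e, ← mul_assoc]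
    exact hmul _ i (hmul g i ih)

end Cfsg.Agent.Helper64.AltPres
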