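import Cfsg.Agent.Helper64.AltPres.P_CARG
import Cfsg.Agent.Helper64.AltPres.P_CARC

/-!
# Carmichael's presentation of the alternating groups (for S2290)

`Car ι ≃* alternatingGroup (Pt ι)` for every finite `ι`, and two criteria derived from it.
-/

set_option autoImplicit false
set_option linter.style.haveILetI false
namespace Cfsg.Agent.Helper64.AltPres
open Equiv
universe u v w

/-- (CARN) the order of Carmichael's group is at most `(n+2)!/2` -/
theorem car_card (n : ℕ) : ∀ (ι : Type u) [Fintype ι], Fintype.card ι = n →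
    Finite (Car ι) ∧ 2 * Nat.card (Car ι) ≤ (n + 2).factorial := by
  induction n with
  | zero =>
    intro ι _ hι
    haveI : IsEmpty ι := Fintype.card_eq_zero_iff.mp hι
    have hsub : ∀ g : Car ι, g = 1 := by
      intro g
      have hg : g ∈ Subgroup.closure (Set.range (Car.x (ι := ι))) := by
        rw [Car.closure_x]; trivial
      have hr : Set.range (Car.x (ι := ι)) = ∅ := Set.range_eq_empty _
      rw [hr, Subgroup.closure_empty] at hg
      exact Subgroup.mem_bot.mp hg
    haveI : Subsingleton (Car ι) := ⟨fun a b => by rw [hsub a, hsub b]⟩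
    refine ⟨inferInstance, ?_⟩
    rw [Nat.card_unique]; decide
  | succ n ih =>
    intro ι _ hι
    classical
    have hne : Nonempty ι := by
      rw [← Fintype.card_pos_iff, hι]; omega
    obtain ⟨i₀⟩ := hne
    let ι₀ : Type u := {i : ι // i ≠ i₀}
    have hcard : Fintype.card ι₀ = n := by
      have := Fintype.card_subtype_compl (fun i : ι => i = i₀)
      simp only [ι₀, ne_eq]
      rw [this, hι]; simp
    obtain ⟨hfin, hle⟩ := ih ι₀ hcard
    let f : ι₀ → ι := Subtype.val
    have hf : Function.Injective f := Subtype.val_injective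
    have hcover : ∀ i, i = i₀ ∨ ∃ j, f j = i := by
      intro i
      by_cases h : i = i₀
      · exact Or.inl h
      · exact Or.inr ⟨⟨i, h⟩, rfl⟩
    have h0 : ∀ j, f j ≠ i₀ := fun j => j.2
    let F : Car ι₀ × Option (Option (Option ι₀)) → Car ι := fun p => Car.map f hf p.1 * tval f i₀ p.2
    have hF : Function.Surjective F := by
      intro g
      obtain ⟨h, t, hg⟩ := coset_closure f hf i₀ hcover h0 g
      exact ⟨(h, t), hg.symm⟩
    haveI := hfin
    have hfin' : Finite (Car ι) := Finite.of_surjective F hF
    refine ⟨hfin', ?_⟩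
    have h1 : Nat.card (Car ι) ≤ Nat.card (Car ι₀ × Option (Option (Option ι₀))) :=
      Nat.card_le_card_of_surjective F hF
    rw [Nat.card_prod, Nat.card_eq_fintype_card (α := Option (Option (Option ι₀)))] at h1
    simp only [Fintype.card_option, hcard] at h1
    have h2 : (n + 1 + 2).factorial = (n + 3) * (n + 2).factorial := by
      rw [show n + 1 + 2 = (n + 2) + 1 by ring, Nat.factorial_succ]
    rw [h2]
    calc 2 * Nat.card (Car ι) ≤ 2 * (Nat.card (Car ι₀) * (n + 1 + 1 + 1)) := by omega
      _ = (n + 3) * (2 * Nat.card (Car ι₀)) := by ring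
      _ ≤ (n + 3) * (n + 2).factorial := Nat.mul_le_mul_left _ hle

/-- (CARF) Carmichael's theorem -/
theorem Car.toAlt_bijective (ι : Type u) [Fintype ι] [DecidableEq ι] :
    Function.Bijective (Car.toAlt ι) := by
  have hsurj : Function.Surjective (Car.toAlt ι) := by
    rw [← MonoidHom.range_eq_top, eq_top_iff]
    intro g _
    have hg : (g : Perm (Pt ι)) ∈ Subgroup.closure (Set.range (cyc3P (ι := ι))) := by
      rw [closure_cyc3P]; exact g.2
    have hle : Subgroup.closure (Set.range (cyc3P (ι := ι))) ≤
        ((Car.toAlt ι).range).map (alternatingGroup (Pt ι)).subtype := by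
      rw [Subgroup.closure_le]
      rintro _ ⟨i, rfl⟩
      exact ⟨cyc3 i, ⟨Car.x i, Car.toAlt_x i⟩, rfl⟩
    obtain ⟨g', hg', hgg'⟩ := hle hg
    have : g' = g := Subtype.ext hgg'
    rwa [← this]
  obtain ⟨hfin, hle⟩ := car_card (Fintype.card ι) ι rfl
  haveI := hfin
  have hcardA : 2 * Nat.card (alternatingGroup (Pt ι)) = (Fintype.card ι + 2).factorial := by
    rw [Nat.card_eq_fintype_card, two_mul_card_alternatingGroup, Fintype.card_perm]
    simp [Fintype.card_option]
  refine Function.Surjective.bijective_of_nat_card_le hsurj ?_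
  omega

/-- Carmichael's theorem as an isomorphism -/
noncomputable def Car.equivAlt (ι : Type u) [Fintype ι] [DecidableEq ι] :
    Car ι ≃* alternatingGroup (Pt ι) :=
  MulEquiv.ofBijective (Car.toAlt ι) (Car.toAlt_bijective ι)


/-- the 3-cycles `(∞₁ ∞₂ i)` generate the alternating group (subtype version) -/
theorem closure_cyc3 (ι : Type u) [Fintype ι] [DecidableEq ι] :
    Subgroup.closure (Set.range (cyc3 (ι := ι))) = ⊤ := by
  rw [eq_top_iff]
  intro g _
  have hg : (g : Perm (Pt ι)) ∈ Subgroup.closure (Set.range (cyc3P (ι := ι))) := by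
    rw [closure_cyc3P]; exact g.2
  have hle : Subgroup.closure (Set.range (cyc3P (ι := ι))) ≤
      (Subgroup.closure (Set.range (cyc3 (ι := ι)))).map (alternatingGroup (Pt ι)).subtype := by
    rw [Subgroup.closure_le]
    rintro _ ⟨i, rfl⟩
    exact ⟨cyc3 i, Subgroup.subset_closure ⟨i, rfl⟩, rfl⟩
  obtain ⟨g', hg', hgg'⟩ := hle hg
  have : g' = g := Subtype.ext hgg'
  rwa [← this]

theorem Car.hom_ext {ι : Type u} {J : Type v} [Group J] {f g : Car ι →* J}
    (h : ∀ i, f (Car.x i) = g (Car.x i)) : f = g :=
  PresentedGroup.ext h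

/-- a surjection followed by a map with bijective composite -/
theorem bijective_of_comp {X : Type u} {G : Type v} {Y : Type w} [Group X] [Group G] [Group Y]
    (f : X →* G) (g : G →* Y) (hf : Function.Surjective f)
    (hgf : Function.Bijective (g.comp f)) : Function.Bijective g := by
  refine ⟨?_, fun y => ?_⟩
  · intro x y hxy
    obtain ⟨x', rfl⟩ := hf x
    obtain ⟨y', rfl⟩ := hf y
    have : g.comp f x' = g.comp f y' := hxy
    rw [hgf.1 this]
  · obtain ⟨x, hx⟩ := hgf.2 y
    exact ⟨f x, hx⟩

/-- (CRIT) criterion: a presented group is the alternating group as soon as it maps to it, killing the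
relators, and contains Carmichael generators lifting the 3-cycles `(∞₁ ∞₂ i)` which generate it. -/
theorem presented_equiv_alt {α : Type v} {ι : Type u} [Fintype ι] [DecidableEq ι]
    (rels : Set (FreeGroup α)) (μ : FreeGroup α →* alternatingGroup (Pt ι))
    (hμ : ∀ r ∈ rels, μ r = 1) (CC : ι → FreeGroup α) (hCC : ∀ i, μ (CC i) = cyc3 i)
    (h3 : ∀ i, (PresentedGroup.mk rels (CC i)) ^ 3 = 1)
    (h2 : ∀ i j, i ≠ j → (PresentedGroup.mk rels (CC i) * PresentedGroup.mk rels (CC j)) ^ 2 = 1)
    (hgen : ∀ x : α, (PresentedGroup.of x : PresentedGroup rels) ∈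
      Subgroup.closure (Set.range fun i => PresentedGroup.mk rels (CC i))) :
    Nonempty (PresentedGroup rels ≃* alternatingGroup (Pt ι)) := by
  let g : PresentedGroup rels →* alternatingGroup (Pt ι) :=
    PresentedGroup.toGroup (f := fun x => μ (FreeGroup.of x)) (by
      intro r hr
      have : FreeGroup.lift (fun x => μ (FreeGroup.of x)) = μ := by
        apply FreeGroup.ext_hom
        intro x; simp
      rw [this]; exact hμ r hr)
  have hg : ∀ w, g (PresentedGroup.mk rels w) = μ w := by
    intro w
    have : g.comp (PresentedGroup.mk rels) = μ := by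
      apply FreeGroup.ext_hom
      intro x
      show g (PresentedGroup.of x) = μ (FreeGroup.of x)
      simp only [g, PresentedGroup.toGroup.of]
    exact DFunLike.congr_fun this w
  let f : Car ι →* PresentedGroup rels := Car.lift (fun i => PresentedGroup.mk rels (CC i)) h3 h2
  have hgf : g.comp f = Car.toAlt ι := by
    apply Car.hom_ext
    intro i
    simp [f, hg, hCC]
  have hf : Function.Surjective f := by
    rw [← MonoidHom.range_eq_top, eq_top_iff, ← PresentedGroup.closure_range_of rels,
      Subgroup.closure_le]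
    rintro _ ⟨x, rfl⟩
    have hle : Subgroup.closure (Set.range fun i => PresentedGroup.mk rels (CC i)) ≤ f.range := by
      rw [Subgroup.closure_le]
      rintro _ ⟨i, rfl⟩
      exact ⟨Car.x i, by simp [f]⟩
    exact hle (hgen x)
  have hbij : Function.Bijective g := by
    apply bijective_of_comp f g hf
    rw [hgf]; exact Car.toAlt_bijective ι
  exact ⟨MulEquiv.ofBijective g hbij⟩


/-- (CRIT') criterion: a group mapping to the alternating group and generated by Carmichael generators lifting
the 3-cycles `(∞₁ ∞₂ i)` is the alternating group. -/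
theorem bijective_of_car {ι : Type u} [Fintype ι] [DecidableEq ι] {G : Type v} [Group G]
    (π : G →* alternatingGroup (Pt ι)) (y : ι → G) (hy : ∀ i, π (y i) = cyc3 i)
    (h3 : ∀ i, y i ^ 3 = 1) (h2 : ∀ i j, i ≠ j → (y i * y j) ^ 2 = 1)
    (hgen : Subgroup.closure (Set.range y) = ⊤) : Function.Bijective π := by
  let f : Car ι →* G := Car.lift y h3 h2
  have hgf : π.comp f = Car.toAlt ι := by
    apply Car.hom_ext
    intro i
    simp [f, hy]
  have hf : Function.Surjective f := by
    rw [← MonoidHom.range_eq_top, eq_top_iff, ← hgen, Subgroup.closure_le]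
    rintro _ ⟨i, rfl⟩
    exact ⟨Car.x i, by simp [f]⟩
  apply bijective_of_comp f π hf
  rw [hgf]; exact Car.toAlt_bijective ι

end Cfsg.Agent.Helper64.AltPres
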