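import Mathlib

/-!
# Bounded presentations of alternating groups (for S2290): definitions

* `carRels ι`, `Car ι`: Carmichael's presentation `⟨x_i (i : ι) | x_i³, (x_i x_j)² (i ≠ j)⟩`,
  which presents the alternating group on `Option (Option ι)` (`x_i ↦ (∞₁ ∞₂ i)`).
* `Pt ι = Option (Option ι)`: the points; `inf1 = none`, `inf2 = some none`, `pt i = some (some i)`.
* `cyc3 i`: the 3-cycle `∞₁ ↦ ∞₂ ↦ i ↦ ∞₁`, as an element of the alternating group.
-/

set_option autoImplicit false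
set_option linter.unusedSimpArgs false

namespace Cfsg.Agent.Helper64.AltPres

universe u v

/-- Carmichael's relators -/
def carRels (ι : Type u) : Set (FreeGroup ι) :=
  {r | (∃ i, r = FreeGroup.of i ^ 3) ∨ ∃ i j, i ≠ j ∧ r = (FreeGroup.of i * FreeGroup.of j) ^ 2}

/-- Carmichael's group -/
abbrev Car (ι : Type u) : Type u := PresentedGroup (carRels ι)

/-- the generators of Carmichael's group -/
def Car.x {ι : Type u} (i : ι) : Car ι := PresentedGroup.of i

theorem Car.x_cube {ι : Type u} (i : ι) : (Car.x i) ^ 3 = 1 := by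
  have h : (FreeGroup.of i ^ 3 : FreeGroup ι) ∈ carRels ι := Or.inl ⟨i, rfl⟩
  have := PresentedGroup.one_of_mem h
  simpa [Car.x, PresentedGroup.of] using this

theorem Car.x_mul_sq {ι : Type u} {i j : ι} (hij : i ≠ j) : (Car.x i * Car.x j) ^ 2 = 1 := by
  have h : ((FreeGroup.of i * FreeGroup.of j) ^ 2 : FreeGroup ι) ∈ carRels ι :=
    Or.inr ⟨i, j, hij, rfl⟩
  have := PresentedGroup.one_of_mem h
  simpa [Car.x, PresentedGroup.of] using this

/-- the universal property of Carmichael's group -/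
def Car.lift {ι : Type u} {J : Type v} [Group J] (y : ι → J) (h3 : ∀ i, y i ^ 3 = 1)
    (h2 : ∀ i j, i ≠ j → (y i * y j) ^ 2 = 1) : Car ι →* J :=
  PresentedGroup.toGroup (f := y) (by
    rintro r (⟨i, rfl⟩ | ⟨i, j, hij, rfl⟩)
    · rw [map_pow, FreeGroup.lift_apply_of]; exact h3 i
    · rw [map_pow, map_mul, FreeGroup.lift_apply_of, FreeGroup.lift_apply_of]; exact h2 i j hij)

@[simp] theorem Car.lift_x {ι : Type u} {J : Type v} [Group J] (y : ι → J) (h3 : ∀ i, y i ^ 3 = 1)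
    (h2 : ∀ i j, i ≠ j → (y i * y j) ^ 2 = 1) (i : ι) : Car.lift y h3 h2 (Car.x i) = y i := by
  simp [Car.lift, Car.x]

/-- the generators generate -/
theorem Car.closure_x (ι : Type u) : Subgroup.closure (Set.range (Car.x (ι := ι))) = ⊤ := by
  have := PresentedGroup.closure_range_of (carRels ι)
  exact this

/-- the points -/
abbrev Pt (ι : Type u) : Type u := Option (Option ι)

/-- the two special points and the ordinary points -/
def inf1 {ι : Type u} : Pt ι := none
def inf2 {ι : Type u} : Pt ι := some none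
def pt {ι : Type u} (i : ι) : Pt ι := some (some i)

/-- the 3-cycle `∞₁ ↦ ∞₂ ↦ i ↦ ∞₁` as a permutation -/
def cyc3P {ι : Type u} [DecidableEq ι] (i : ι) : Equiv.Perm (Pt ι) :=
  Equiv.swap inf1 inf2 * Equiv.swap inf2 (pt i)

open Equiv

section
variable {ι : Type u}

@[simp] theorem inf1_ne_inf2 : (inf1 : Pt ι) ≠ inf2 := by simp [inf1, inf2]
@[simp] theorem inf2_ne_inf1 : (inf2 : Pt ι) ≠ inf1 := by simp [inf1, inf2]
@[simp] theorem inf1_ne_pt (i : ι) : (inf1 : Pt ι) ≠ pt i := by simp [inf1, pt]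
@[simp] theorem pt_ne_inf1 (i : ι) : pt i ≠ (inf1 : Pt ι) := by simp [inf1, pt]
@[simp] theorem inf2_ne_pt (i : ι) : (inf2 : Pt ι) ≠ pt i := by simp [inf2, pt]
@[simp] theorem pt_ne_inf2 (i : ι) : pt i ≠ (inf2 : Pt ι) := by simp [inf2, pt]
@[simp] theorem pt_inj {i j : ι} : pt i = pt j ↔ i = j := by simp [pt]

theorem Pt.cases (x : Pt ι) : x = inf1 ∨ x = inf2 ∨ ∃ j, x = pt j := by
  rcases x with _ | _ | j
  · exact Or.inl rfl
  · exact Or.inr (Or.inl rfl)
  · exact Or.inr (Or.inr ⟨j, rfl⟩)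

variable [DecidableEq ι]

@[simp] theorem cyc3P_inf1 (i : ι) : cyc3P i inf1 = inf2 := by
  simp [cyc3P, Equiv.swap_apply_def]
@[simp] theorem cyc3P_inf2 (i : ι) : cyc3P i inf2 = pt i := by
  simp [cyc3P, Equiv.swap_apply_def]
@[simp] theorem cyc3P_pt_self (i : ι) : cyc3P i (pt i) = inf1 := by
  simp [cyc3P, Equiv.swap_apply_def]
theorem cyc3P_pt_ne {i j : ι} (h : j ≠ i) : cyc3P i (pt j) = pt j := by
  simp [cyc3P, Equiv.swap_apply_def, h]

theorem cyc3P_cube (i : ι) : cyc3P i ^ 3 = 1 := by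
  ext x
  rcases Pt.cases x with rfl | rfl | ⟨j, rfl⟩
  · simp [pow_succ]
  · simp [pow_succ]
  · by_cases h : j = i
    · subst h; simp [pow_succ]
    · simp [pow_succ, cyc3P_pt_ne h]

theorem cyc3P_mul_sq {i j : ι} (hij : i ≠ j) : (cyc3P i * cyc3P j) ^ 2 = 1 := by
  ext x
  rcases Pt.cases x with rfl | rfl | ⟨k, rfl⟩
  · simp [pow_succ, cyc3P_pt_ne hij]
  · simp [pow_succ, cyc3P_pt_ne hij.symm]
  · by_cases h1 : k = i
    · subst h1; simp [pow_succ, cyc3P_pt_ne hij]
    · by_cases h2 : k = j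
      · subst h2; simp [pow_succ, cyc3P_pt_ne h1]
      · simp [pow_succ, cyc3P_pt_ne h1, cyc3P_pt_ne h2]

theorem cyc3P_isThreeCycle [Fintype ι] (i : ι) : (cyc3P i).IsThreeCycle := by
  unfold cyc3P
  rw [Equiv.swap_comm inf1 inf2]
  exact Equiv.Perm.isThreeCycle_swap_mul_swap_same (by simp) (by simp) (by simp)

theorem cyc3P_mem [Fintype ι] (i : ι) :
    cyc3P i ∈ alternatingGroup (Pt ι) := (cyc3P_isThreeCycle i).mem_alternatingGroup

/-- the 3-cycle `∞₁ ↦ ∞₂ ↦ i ↦ ∞₁` in the alternating group -/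
def cyc3 [Fintype ι] (i : ι) : alternatingGroup (Pt ι) := ⟨cyc3P i, cyc3P_mem i⟩

@[simp] theorem cyc3_val [Fintype ι] (i : ι) : ((cyc3 i : alternatingGroup (Pt ι)) : Perm (Pt ι)) = cyc3P i := rfl

variable (ι) in
/-- Carmichael's group maps to the alternating group -/
def Car.toAlt [Fintype ι] : Car ι →* alternatingGroup (Pt ι) :=
  Car.lift cyc3 (fun i => Subtype.ext (by simpa using cyc3P_cube i))
    (fun i j hij => Subtype.ext (by simpa using cyc3P_mul_sq hij))

@[simp] theorem Car.toAlt_x [Fintype ι] (i : ι) : Car.toAlt ι (Car.x i) = cyc3 i := by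
  simp [Car.toAlt]

end

/-- functoriality of Carmichael's group in injective maps -/
def Car.map {ι₀ ι : Type u} (f : ι₀ → ι) (hf : Function.Injective f) : Car ι₀ →* Car ι :=
  Car.lift (fun j => Car.x (f j)) (fun _ => Car.x_cube _) (fun _ _ hij => Car.x_mul_sq (hf.ne hij))

@[simp] theorem Car.map_x {ι₀ ι : Type u} (f : ι₀ → ι) (hf : Function.Injective f) (j : ι₀) :
    Car.map f hf (Car.x j) = Car.x (f j) := by simp [Car.map]

/-- the transversal of `Car ι₀` in `Car ι` -/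
def tval {ι₀ ι : Type u} (f : ι₀ → ι) (i₀ : ι) : Option (Option (Option ι₀)) → Car ι
  | none => 1
  | some none => Car.x i₀
  | some (some none) => Car.x i₀ ^ 2
  | some (some (some j)) => Car.x i₀ * (Car.x (f j))⁻¹

end Cfsg.Agent.Helper64.AltPres
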