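import Cfsg.Agent.Helper64.AltPres.GlueDefs
/-! (GLUEA) for S2290, architect helper64; proof by helper41 (board #12894).
`GLUEA_glue_abs_of` is `glue_abs` with the two facts of `Car.lean` (`closure_cyc3` for `α ⊕ β`, `β ⊕ γ` and
`bijective_of_car` for `π`) as explicit hypotheses `hclU`, `hclV`, `hcar`; everything here is sorry-free. -/
set_option autoImplicit false
namespace Cfsg.Agent.Helper64.AltPres
open Equiv
universe u v

/-- two homomorphisms whose values commute on generators have commuting values everywhere -/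
theorem GLUEA_commute_of_gens {A : Type*} {B : Type*} {G : Type*} [Group A] [Group B] [Group G]
    (f : A →* G) (g : B →* G) (sA : Set A) (hA : Subgroup.closure sA = ⊤) (sB : Set B)
    (hB : Subgroup.closure sB = ⊤) (h : ∀ a ∈ sA, ∀ b ∈ sB, Commute (f a) (g b)) :
    ∀ a b, Commute (f a) (g b) := by
  have step1 : ∀ a ∈ sA, ∀ b : B, Commute (f a) (g b) := by
    intro a ha b
    have hb : b ∈ Subgroup.closure sB := by rw [hB]; trivial
    induction hb using Subgroup.closure_induction with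
    | mem x hx => exact h a ha x hx
    | one => rw [map_one]; exact Commute.one_right _
    | mul x y _ _ ihx ihy => rw [map_mul]; exact ihx.mul_right ihy
    | inv x _ ihx => rw [map_inv]; exact ihx.inv_right
  intro a b
  have ha : a ∈ Subgroup.closure sA := by rw [hA]; trivial
  induction ha using Subgroup.closure_induction with
  | mem x hx => exact step1 x hx b
  | one => rw [map_one]; exact Commute.one_left _
  | mul x y _ _ ihx ihy => rw [map_mul]; exact ihx.mul_left ihy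
  | inv x _ ihx => rw [map_inv]; exact ihx.inv_left

theorem GLUEA_cyc3_cube {ι : Type u} [Fintype ι] [DecidableEq ι] (i : ι) : (cyc3 i) ^ 3 = 1 :=
  Subtype.ext (cyc3P_cube i)

theorem GLUEA_cyc3_mul_sq {ι : Type u} [Fintype ι] [DecidableEq ι] {i j : ι} (hij : i ≠ j) :
    (cyc3 i * cyc3 j) ^ 2 = 1 :=
  Subtype.ext (cyc3P_mul_sq hij)

/-- the range of a homomorphism from `Alt(Pt ι)` lies in any subgroup containing the images of the `cyc3 i` -/
theorem GLUEA_range_le {ι : Type u} [Fintype ι] [DecidableEq ι] {G : Type v} [Group G]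
    (hcl : Subgroup.closure (Set.range (cyc3 (ι := ι))) = ⊤)
    (j : alternatingGroup (Pt ι) →* G) (H : Subgroup G) (h : ∀ i, j (cyc3 i) ∈ H) : j.range ≤ H := by
  rw [MonoidHom.range_eq_map, ← hcl, MonoidHom.map_closure, Subgroup.closure_le]
  rintro _ ⟨_, ⟨i, rfl⟩, rfl⟩
  exact h i

theorem GLUEA_sq_swap {G : Type*} [Group G] {x y : G} (h : (x * y) ^ 2 = 1) : (y * x) ^ 2 = 1 := by
  have : (y * x) ^ 2 = x⁻¹ * (x * y) ^ 2 * x := by
    rw [pow_two, pow_two]; group
  rw [this, h, mul_one, inv_mul_cancel]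

variable {α β γ : Type u} [Fintype α] [DecidableEq α] [Fintype β] [DecidableEq β]
  [Fintype γ] [DecidableEq γ]

/-- `glue_abs` with the two facts of `Car.lean` as hypotheses -/
theorem GLUEA_glue_abs_of {G : Type v} [Group G]
    (hclU : Subgroup.closure (Set.range (cyc3 (ι := α ⊕ β))) = ⊤)
    (hclV : Subgroup.closure (Set.range (cyc3 (ι := β ⊕ γ))) = ⊤)
    (jU : alternatingGroup (Pt (α ⊕ β)) →* G) (jV : alternatingGroup (Pt (β ⊕ γ)) →* G)
    (π : G →* alternatingGroup (Pt (α ⊕ β ⊕ γ)))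
    (hcar : ∀ y : α ⊕ β ⊕ γ → G, (∀ i, π (y i) = cyc3 i) → (∀ i, y i ^ 3 = 1) →
      (∀ i j, i ≠ j → (y i * y j) ^ 2 = 1) → Subgroup.closure (Set.range y) = ⊤ → Function.Bijective π)
    (hπU : ∀ u, π (jU u) = altEmb (ptEmb (embU α β γ)) u)
    (hπV : ∀ v, π (jV v) = altEmb (ptEmb (embV α β γ)) v)
    (hgen : jU.range ⊔ jV.range = ⊤)
    (gβ : Set (alternatingGroup (Pt β))) (hgβ : Subgroup.closure gβ = ⊤)
    (hI : ∀ g ∈ gβ, jU (altEmb (ptEmb (Function.Embedding.inr : β ↪ α ⊕ β)) g) =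
      jV (altEmb (ptEmb (Function.Embedding.inl : β ↪ β ⊕ γ)) g))
    (gα : Set (alternatingGroup α)) (hgα : Subgroup.closure gα = ⊤)
    (gV : Set (alternatingGroup (Pt (β ⊕ γ)))) (hgV : Subgroup.closure gV = ⊤)
    (hC1 : ∀ g ∈ gα, ∀ v ∈ gV,
      Commute (jU (altEmb ((Function.Embedding.inl : α ↪ α ⊕ β).trans ptE) g)) (jV v))
    (gU : Set (alternatingGroup (Pt (α ⊕ β)))) (hgU : Subgroup.closure gU = ⊤)
    (gγ : Set (alternatingGroup γ)) (hgγ : Subgroup.closure gγ = ⊤)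
    (hC2 : ∀ u ∈ gU, ∀ h ∈ gγ,
      Commute (jU u) (jV (altEmb ((Function.Embedding.inr : γ ↪ β ⊕ γ).trans ptE) h)))
    (S : Finset α) (T : Finset γ)
    (hS : ∀ a, ∃ g : alternatingGroup α, (g : Perm α) a ∈ S)
    (hT : ∀ c, ∃ h : alternatingGroup γ, (h : Perm γ) c ∈ T)
    (hM : ∀ a ∈ S, ∀ c ∈ T, (jU (cyc3 (Sum.inl a)) * jV (cyc3 (Sum.inr c))) ^ 2 = 1) :
    Function.Bijective π := by
  -- (I) on all of `Alt(Pt β)`
  have hIall : jU.comp (altEmb (ptEmb (Function.Embedding.inr : β ↪ α ⊕ β))) =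
      jV.comp (altEmb (ptEmb (Function.Embedding.inl : β ↪ β ⊕ γ))) :=
    MonoidHom.eq_of_eqOn_dense hgβ (fun g hg => hI g hg)
  have hIb : ∀ b : β, jU (cyc3 (Sum.inr b)) = jV (cyc3 (Sum.inl b)) := by
    intro b
    have h1 := DFunLike.congr_fun hIall (cyc3 b)
    simp only [MonoidHom.comp_apply, altEmb_ptEmb_cyc3] at h1
    exact h1
  -- (C1), (C2) everywhere
  have hC1all : ∀ (g : alternatingGroup α) (v : alternatingGroup (Pt (β ⊕ γ))),
      Commute (jU (altEmb ((Function.Embedding.inl : α ↪ α ⊕ β).trans ptE) g)) (jV v) :=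
    GLUEA_commute_of_gens (jU.comp (altEmb ((Function.Embedding.inl : α ↪ α ⊕ β).trans ptE))) jV
      gα hgα gV hgV hC1
  have hC2all : ∀ (u : alternatingGroup (Pt (α ⊕ β))) (h : alternatingGroup γ),
      Commute (jU u) (jV (altEmb ((Function.Embedding.inr : γ ↪ β ⊕ γ).trans ptE) h)) :=
    GLUEA_commute_of_gens jU (jV.comp (altEmb ((Function.Embedding.inr : γ ↪ β ⊕ γ).trans ptE)))
      gU hgU gγ hgγ hC2
  -- the generators
  let y : α ⊕ β ⊕ γ → G := fun i =>
    match i with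
    | Sum.inl a => jU (cyc3 (Sum.inl a))
    | Sum.inr (Sum.inl b) => jU (cyc3 (Sum.inr b))
    | Sum.inr (Sum.inr c) => jV (cyc3 (Sum.inr c))
  have hyU : ∀ k : α ⊕ β, y (embU α β γ k) = jU (cyc3 k) := by
    rintro (a | b) <;> rfl
  have hyV : ∀ k : β ⊕ γ, y (embV α β γ k) = jV (cyc3 k) := by
    rintro (b | c)
    · exact hIb b
    · rfl
  have hU2 : ∀ k l : α ⊕ β, k ≠ l → (jU (cyc3 k) * jU (cyc3 l)) ^ 2 = 1 := by
    intro k l hkl
    rw [← map_mul, ← map_pow, GLUEA_cyc3_mul_sq hkl, map_one]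
  have hV2 : ∀ k l : β ⊕ γ, k ≠ l → (jV (cyc3 k) * jV (cyc3 l)) ^ 2 = 1 := by
    intro k l hkl
    rw [← map_mul, ← map_pow, GLUEA_cyc3_mul_sq hkl, map_one]
  -- the mixed relation
  have hmix : ∀ (a : α) (c : γ), (jU (cyc3 (Sum.inl a)) * jV (cyc3 (Sum.inr c))) ^ 2 = 1 := by
    intro a c
    obtain ⟨g, hg⟩ := hS a
    obtain ⟨h, hh⟩ := hT c
    set P := jU (altEmb ((Function.Embedding.inl : α ↪ α ⊕ β).trans ptE) g) with hP
    set Q := jV (altEmb ((Function.Embedding.inr : γ ↪ β ⊕ γ).trans ptE) h) with hQ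
    set xa := jU (cyc3 (Sum.inl a)) with hxa
    set yc := jV (cyc3 (Sum.inr c)) with hyc
    have hPx : P * xa * P⁻¹ = jU (cyc3 (Sum.inl ((g : Perm α) a))) := by
      rw [hP, hxa, ← map_inv, ← map_mul, ← map_mul]
      congr 1
      exact altEmb_conj (Function.Embedding.inl : α ↪ α ⊕ β) g a
    have hQy : Q * yc * Q⁻¹ = jV (cyc3 (Sum.inr ((h : Perm γ) c))) := by
      rw [hQ, hyc, ← map_inv, ← map_mul, ← map_mul]
      congr 1
      exact altEmb_conj (Function.Embedding.inr : γ ↪ β ⊕ γ) h c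
    have hPy : Commute P yc := hC1all g _
    have hPQ : Commute P Q := hC1all g _
    have hxQ : Commute xa Q := hC2all _ h
    have hconj : (P * Q) * (xa * yc) * (P * Q)⁻¹ =
        jU (cyc3 (Sum.inl ((g : Perm α) a))) * jV (cyc3 (Sum.inr ((h : Perm γ) c))) := by
      rw [← hPx, ← hQy]
      have e1 : Q * xa = xa * Q := hxQ.eq.symm
      have e2 : P * yc = yc * P := hPy.eq
      have e3 : P * Q = Q * P := hPQ.eq
      calc (P * Q) * (xa * yc) * (P * Q)⁻¹ = P * (Q * xa) * yc * Q⁻¹ * P⁻¹ := by group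
        _ = P * (xa * Q) * yc * Q⁻¹ * P⁻¹ := by rw [e1]
        _ = P * xa * (Q * yc * Q⁻¹) * P⁻¹ := by group
        _ = P * xa * P⁻¹ * (P * (Q * yc * Q⁻¹) * P⁻¹) := by group
        _ = P * xa * P⁻¹ * ((P * Q) * yc * Q⁻¹ * P⁻¹) := by group
        _ = P * xa * P⁻¹ * ((Q * P) * yc * Q⁻¹ * P⁻¹) := by rw [e3]
        _ = P * xa * P⁻¹ * (Q * (P * yc) * Q⁻¹ * P⁻¹) := by group
        _ = P * xa * P⁻¹ * (Q * (yc * P) * Q⁻¹ * P⁻¹) := by rw [e2]
        _ = P * xa * P⁻¹ * (Q * yc * (P * Q⁻¹ * P⁻¹)) := by group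
        _ = P * xa * P⁻¹ * (Q * yc * Q⁻¹) := by
            have : P * Q⁻¹ * P⁻¹ = Q⁻¹ := by
              rw [hPQ.inv_right.eq]; group
            rw [this, mul_assoc Q]
    have h1 := hM _ hg _ hh
    rw [← hconj, conj_pow, conj_eq_one_iff] at h1
    exact h1
  apply hcar y
  · -- hy
    rintro (a | b | c)
    · show π (jU (cyc3 (Sum.inl a))) = _
      rw [hπU, altEmb_ptEmb_cyc3]; rfl
    · show π (jU (cyc3 (Sum.inr b))) = _
      rw [hπU, altEmb_ptEmb_cyc3]; rfl
    · show π (jV (cyc3 (Sum.inr c))) = _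
      rw [hπV, altEmb_ptEmb_cyc3]; rfl
  · -- h3
    rintro (a | b | c)
    · show (jU (cyc3 (Sum.inl a))) ^ 3 = 1
      rw [← map_pow, GLUEA_cyc3_cube, map_one]
    · show (jU (cyc3 (Sum.inr b))) ^ 3 = 1
      rw [← map_pow, GLUEA_cyc3_cube, map_one]
    · show (jV (cyc3 (Sum.inr c))) ^ 3 = 1
      rw [← map_pow, GLUEA_cyc3_cube, map_one]
  · -- h2
    rintro (a | b | c) (a' | b' | c') hne
    · exact hU2 (Sum.inl a) (Sum.inl a') (fun h => hne (by rw [Sum.inl.inj h]))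
    · exact hU2 (Sum.inl a) (Sum.inr b') (by simp)
    · exact hmix a c'
    · exact hU2 (Sum.inr b) (Sum.inl a') (by simp)
    · exact hU2 (Sum.inr b) (Sum.inr b') (fun h => hne (by rw [Sum.inr.inj h]))
    · show (jU (cyc3 (Sum.inr b)) * jV (cyc3 (Sum.inr c'))) ^ 2 = 1
      rw [hIb]
      exact hV2 (Sum.inl b) (Sum.inr c') (by simp)
    · exact GLUEA_sq_swap (hmix a' c)
    · show (jV (cyc3 (Sum.inr c)) * jU (cyc3 (Sum.inr b'))) ^ 2 = 1
      rw [hIb]
      exact hV2 (Sum.inr c) (Sum.inl b') (by simp)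
    · exact hV2 (Sum.inr c) (Sum.inr c') (fun h => hne (by rw [Sum.inr.inj h]))
  · -- hgen
    rw [eq_top_iff, ← hgen, sup_le_iff]
    constructor
    · apply GLUEA_range_le hclU
      intro k
      rw [← hyU k]
      exact Subgroup.subset_closure ⟨_, rfl⟩
    · apply GLUEA_range_le hclV
      intro k
      rw [← hyV k]
      exact Subgroup.subset_closure ⟨_, rfl⟩

-- `glue_abs` itself (5-line wrapper around `GLUEA_glue_abs_of`, see the end of tools note) is added here as soon as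
-- `Cfsg.Agent.Helper64.AltPres.Car` (closure_cyc3, bijective_of_car) is on main.

end Cfsg.Agent.Helper64.AltPres
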