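import Cfsg.Agent.Helper64.AltPres.Car
import Cfsg.Agent.Helper64.AltPres.P_GLUEA

/-!
# Gluing two alternating groups along a common alternating subgroup (for S2290)

`glue_abs`: helper41's `GLUEA_glue_abs_of` with the two facts of `Car.lean` plugged in.
-/

set_option autoImplicit false
namespace Cfsg.Agent.Helper64.AltPres
open Equiv
universe u v

variable {α β γ : Type u} [Fintype α] [DecidableEq α] [Fintype β] [DecidableEq β]
  [Fintype γ] [DecidableEq γ]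

theorem glue_abs {G : Type v} [Group G]
    (jU : alternatingGroup (Pt (α ⊕ β)) →* G) (jV : alternatingGroup (Pt (β ⊕ γ)) →* G)
    (π : G →* alternatingGroup (Pt (α ⊕ β ⊕ γ)))
    (hπU : ∀ u, π (jU u) = altEmb (ptEmb (embU α β γ)) u)
    (hπV : ∀ v, π (jV v) = altEmb (ptEmb (embV α β γ)) v)
    (hgen : jU.range ⊔ jV.range = ⊤)
    (gβ : Set (alternatingGroup (Pt β))) (hgβ : Subgroup.closure gβ = ⊤)
    (hI : ∀ g ∈ gβ, jU (altEmb (ptEmb (Function.Embedding.inr : β ↪ α ⊕ β)) g) =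
      jV (altEmb (ptEmb (Function.Embedding.inl : β ↪ β ⊕ γ)) g))
    (gα : Set (alternatingGroup α)) (hgα : Subgroup.closure gα = ⊤)
    (gV : Set (alternatingGroup (Pt (β ⊕ γ)))) (hgV : Subgroup.closure gV = ⊤)
    (hC1 : ∀ g ∈ gα, ∀ v ∈ gV,
      Commute (jU (altEmb ((Function.Embedding.inl : α ↪ α ⊕ β).trans ptE) g)) (jV v))
    (gU : Set (alternatingGroup (Pt (α ⊕ β)))) (hgU : Subgroup.closure gU = ⊤)
    (gγ : Set (alternatingGroup γ)) (hgγ : Subgroup.closure gγ = ⊤)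
    (hC2 : ∀ u ∈ gU, ∀ h ∈ gγ,
      Commute (jU u) (jV (altEmb ((Function.Embedding.inr : γ ↪ β ⊕ γ).trans ptE) h)))
    (S : Finset α) (T : Finset γ)
    (hS : ∀ a, ∃ g : alternatingGroup α, (g : Perm α) a ∈ S)
    (hT : ∀ c, ∃ h : alternatingGroup γ, (h : Perm γ) c ∈ T)
    (hM : ∀ a ∈ S, ∀ c ∈ T, (jU (cyc3 (Sum.inl a)) * jV (cyc3 (Sum.inr c))) ^ 2 = 1) :
    Function.Bijective π :=
  GLUEA_glue_abs_of (closure_cyc3 _) (closure_cyc3 _) jU jV π
    (fun y hy h3 h2 hg => bijective_of_car π y hy h3 h2 hg) hπU hπV hgen gβ hgβ hI gα hgα gV hgV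
    hC1 gU hgU gγ hgγ hC2 S T hS hT hM

end Cfsg.Agent.Helper64.AltPres
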