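import Cfsg.Agent.Helper64.AltPres.Main
import Cfsg.Agent.Helper64.AltPres.Glue

/-!
# Gluing two presentations of alternating groups with 11 (instead of 14) more relators (for S2292)

A variant of helper55's `glue_pres_of`: the outer parts `α`, `γ` contribute either no commutator
relators and at most two transversal points (at most two points) or two generators and one
transversal point (at least three points).  Consequence: `exists_alt_presentation25`.
-/

set_option autoImplicit false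
set_option linter.unusedSectionVars false
set_option linter.style.haveILetI false

namespace Cfsg.Agent.Helper64.AltPres

open Equiv Cfsg.Agent.Helper55.AltGlue

section
variable {α β γ : Type} [Fintype α] [DecidableEq α] [Fintype β] [DecidableEq β] [Fintype γ] [DecidableEq γ]

/-- gluing two presentations with 11 more relators -/
theorem glue_pres_of11
    (h2 : ∀ (X : Type) [Fintype X] [DecidableEq X],
      ∃ g1 g2 : alternatingGroup X, Subgroup.closure {g1, g2} = ⊤)
    (hGT : ∀ (X : Type) [Fintype X] [DecidableEq X],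
      ∃ (Gs : Finset (alternatingGroup X)) (S : Finset X),
        Subgroup.closure (↑Gs : Set (alternatingGroup X)) = ⊤ ∧
        (∀ x, ∃ g : alternatingGroup X, (g : Perm X) x ∈ S) ∧
        ((Gs.card = 0 ∧ S.card ≤ 2) ∨ (Gs.card ≤ 2 ∧ S.card ≤ 1)))
    {α β γ : Type} [Fintype α] [DecidableEq α] [Fintype β] [DecidableEq β]
    [Fintype γ] [DecidableEq γ]
    (hA : ∀ {G : Type} [Group G]
      (jU : alternatingGroup (Pt (α ⊕ β)) →* G) (jV : alternatingGroup (Pt (β ⊕ γ)) →* G)
      (π : G →* alternatingGroup (Pt (α ⊕ β ⊕ γ)))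
      (_ : ∀ u, π (jU u) = altEmb (ptEmb (embU α β γ)) u)
      (_ : ∀ v, π (jV v) = altEmb (ptEmb (embV α β γ)) v)
      (_ : jU.range ⊔ jV.range = ⊤)
      (gβ : Set (alternatingGroup (Pt β))) (_ : Subgroup.closure gβ = ⊤)
      (_ : ∀ g ∈ gβ, jU (altEmb (ptEmb (Function.Embedding.inr : β ↪ α ⊕ β)) g) =
        jV (altEmb (ptEmb (Function.Embedding.inl : β ↪ β ⊕ γ)) g))
      (gα : Set (alternatingGroup α)) (_ : Subgroup.closure gα = ⊤)
      (gV : Set (alternatingGroup (Pt (β ⊕ γ)))) (_ : Subgroup.closure gV = ⊤)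
      (_ : ∀ g ∈ gα, ∀ v ∈ gV,
        Commute (jU (altEmb ((Function.Embedding.inl : α ↪ α ⊕ β).trans ptE) g)) (jV v))
      (gU : Set (alternatingGroup (Pt (α ⊕ β)))) (_ : Subgroup.closure gU = ⊤)
      (gγ : Set (alternatingGroup γ)) (_ : Subgroup.closure gγ = ⊤)
      (_ : ∀ u ∈ gU, ∀ h ∈ gγ,
        Commute (jU u) (jV (altEmb ((Function.Embedding.inr : γ ↪ β ⊕ γ).trans ptE) h)))
      (S : Finset α) (T : Finset γ)
      (_ : ∀ a, ∃ g : alternatingGroup α, (g : Perm α) a ∈ S)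
      (_ : ∀ c, ∃ h : alternatingGroup γ, (h : Perm γ) c ∈ T)
      (_ : ∀ a ∈ S, ∀ c ∈ T, (jU (cyc3 (Sum.inl a)) * jV (cyc3 (Sum.inr c))) ^ 2 = 1),
      Function.Bijective π)
    {κU κV : Type} [DecidableEq κU] [DecidableEq κV]
    (relsU : Finset (FreeGroup κU))
    (φU : PresentedGroup (↑relsU : Set (FreeGroup κU)) ≃* alternatingGroup (Pt (α ⊕ β)))
    (relsV : Finset (FreeGroup κV))
    (φV : PresentedGroup (↑relsV : Set (FreeGroup κV)) ≃* alternatingGroup (Pt (β ⊕ γ))) :
    ∃ rels : Finset (FreeGroup (κU ⊕ κV)), rels.card ≤ relsU.card + relsV.card + 11 ∧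
      Nonempty (PresentedGroup (↑rels : Set (FreeGroup (κU ⊕ κV))) ≃*
        alternatingGroup (Pt (α ⊕ β ⊕ γ))) := by
  classical
  -- generators and transversals
  obtain ⟨b1, b2, hb⟩ := h2 (Pt β)
  obtain ⟨bb, hbb⟩ := GLUEP_fin2 b1 b2 hb
  obtain ⟨v1, v2, hv⟩ := h2 (Pt (β ⊕ γ))
  obtain ⟨vv, hvv⟩ := GLUEP_fin2 v1 v2 hv
  obtain ⟨u1, u2, hu⟩ := h2 (Pt (α ⊕ β))
  obtain ⟨uu, huu⟩ := GLUEP_fin2 u1 u2 hu
  obtain ⟨Ga, S, hGa, hS, hcA⟩ := hGT α
  obtain ⟨Gc, T, hGc, hTT, hcC⟩ := hGT γ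
  -- sections
  have hsurjU : ∀ u : alternatingGroup (Pt (α ⊕ β)),
      ∃ w : FreeGroup κU, φU (PresentedGroup.mk _ w) = u := by
    intro u
    obtain ⟨x, hx⟩ := φU.surjective u
    obtain ⟨w, rfl⟩ := PresentedGroup.mk_surjective _ x
    exact ⟨w, hx⟩
  choose sU hsU using hsurjU
  have hsurjV : ∀ v : alternatingGroup (Pt (β ⊕ γ)),
      ∃ w : FreeGroup κV, φV (PresentedGroup.mk _ w) = v := by
    intro v
    obtain ⟨x, hx⟩ := φV.surjective v
    obtain ⟨w, rfl⟩ := PresentedGroup.mk_surjective _ x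
    exact ⟨w, hx⟩
  choose sV hsV using hsurjV
  obtain ⟨iU, hiU⟩ : ∃ f : FreeGroup κU →* FreeGroup (κU ⊕ κV), f = FreeGroup.map Sum.inl := ⟨_, rfl⟩
  obtain ⟨iV, hiV⟩ : ∃ f : FreeGroup κV →* FreeGroup (κU ⊕ κV), f = FreeGroup.map Sum.inr := ⟨_, rfl⟩
  have hiU_of : ∀ k, iU (FreeGroup.of k) = FreeGroup.of (Sum.inl k) := fun k => by rw [hiU]; rfl
  have hiV_of : ∀ k, iV (FreeGroup.of k) = FreeGroup.of (Sum.inr k) := fun k => by rw [hiV]; rfl
  obtain ⟨wU, hwU⟩ : ∃ f : alternatingGroup (Pt (α ⊕ β)) → FreeGroup (κU ⊕ κV),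
      ∀ u, f u = iU (sU u) := ⟨fun u => iU (sU u), fun _ => rfl⟩
  obtain ⟨wV, hwV⟩ : ∃ f : alternatingGroup (Pt (β ⊕ γ)) → FreeGroup (κU ⊕ κV),
      ∀ v, f v = iV (sV v) := ⟨fun v => iV (sV v), fun _ => rfl⟩
  -- the relators
  obtain ⟨RU, hRUc, hRUm, hRUr⟩ := GLUEP_img relsU iU
  obtain ⟨RV, hRVc, hRVm, hRVr⟩ := GLUEP_img relsV iV
  obtain ⟨RI, hRIc, hRIm, hRIr⟩ := GLUEP_img (Finset.univ : Finset (Fin 2)) (fun k =>
    wU (altEmb (ptEmb (Function.Embedding.inr : β ↪ α ⊕ β)) (bb k)) *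
      (wV (altEmb (ptEmb (Function.Embedding.inl : β ↪ β ⊕ γ)) (bb k)))⁻¹)
  obtain ⟨RC1, hRC1c, hRC1m, hRC1r⟩ := GLUEP_img (Ga ×ˢ (Finset.univ : Finset (Fin 2))) (fun k =>
    wU (altEmb ((Function.Embedding.inl : α ↪ α ⊕ β).trans ptE) k.1) * wV (vv k.2) *
      (wU (altEmb ((Function.Embedding.inl : α ↪ α ⊕ β).trans ptE) k.1))⁻¹ * (wV (vv k.2))⁻¹)
  obtain ⟨RC2, hRC2c, hRC2m, hRC2r⟩ := GLUEP_img ((Finset.univ : Finset (Fin 2)) ×ˢ Gc) (fun k =>
    wU (uu k.1) * wV (altEmb ((Function.Embedding.inr : γ ↪ β ⊕ γ).trans ptE) k.2) *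
      (wU (uu k.1))⁻¹ * (wV (altEmb ((Function.Embedding.inr : γ ↪ β ⊕ γ).trans ptE) k.2))⁻¹)
  obtain ⟨RM, hRMc, hRMm, hRMr⟩ := GLUEP_img (S ×ˢ T) (fun x : α × γ =>
    (wU (cyc3 (Sum.inl x.1)) * wV (cyc3 (Sum.inr x.2))) ^ 2)
  obtain ⟨rels, hrels⟩ : ∃ R : Finset (FreeGroup (κU ⊕ κV)), R = RU ∪ RV ∪ RI ∪ RC1 ∪ RC2 ∪ RM :=
    ⟨_, rfl⟩
  refine ⟨rels, ?_, ?_⟩
  · -- the number of relators
    have e2 : (Finset.univ : Finset (Fin 2)).card = 2 := by simp
    have e3 : (Ga ×ˢ (Finset.univ : Finset (Fin 2))).card = Ga.card * 2 := by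
      rw [Finset.card_product, e2]
    have e3' : ((Finset.univ : Finset (Fin 2)) ×ˢ Gc).card = 2 * Gc.card := by
      rw [Finset.card_product, e2]
    have e4' : (S ×ˢ T).card = S.card * T.card := Finset.card_product S T
    have c1 := Finset.card_union_le (RU ∪ RV ∪ RI ∪ RC1 ∪ RC2) RM
    have c2 := Finset.card_union_le (RU ∪ RV ∪ RI ∪ RC1) RC2
    have c3 := Finset.card_union_le (RU ∪ RV ∪ RI) RC1
    have c4 := Finset.card_union_le (RU ∪ RV) RI
    have c5 := Finset.card_union_le RU RV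
    rw [hrels]
    rw [e3] at hRC1c
    rw [e3'] at hRC2c
    rw [e4'] at hRMc
    rw [e2] at hRIc
    rcases hcA with ⟨hA0, hS2⟩ | ⟨hA2, hS1⟩ <;> rcases hcC with ⟨hC0, hT2⟩ | ⟨hC2', hT1⟩
    · have := Nat.mul_le_mul hS2 hT2
      omega
    · have := Nat.mul_le_mul hS2 hT1
      omega
    · have := Nat.mul_le_mul hS1 hT2
      omega
    · have := Nat.mul_le_mul hS1 hT1
      omega
  · -- the presented group
    have hsub : ∀ r, (r ∈ RU ∨ r ∈ RV ∨ r ∈ RI ∨ r ∈ RC1 ∨ r ∈ RC2 ∨ r ∈ RM) ↔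
        r ∈ (↑rels : Set (FreeGroup (κU ⊕ κV))) := by
      intro r
      rw [hrels, Finset.mem_coe]
      simp only [Finset.mem_union]
      tauto
    -- the maps `jU`, `jV`
    have hliftU : ∀ w : FreeGroup κU,
        FreeGroup.lift (fun k => (PresentedGroup.of (Sum.inl k) :
          PresentedGroup (↑rels : Set (FreeGroup (κU ⊕ κV))))) w =
          PresentedGroup.mk (↑rels : Set (FreeGroup (κU ⊕ κV))) (iU w) := by
      intro w
      have e : FreeGroup.lift (fun k => (PresentedGroup.of (Sum.inl k) :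
          PresentedGroup (↑rels : Set (FreeGroup (κU ⊕ κV))))) =
          (PresentedGroup.mk (↑rels : Set (FreeGroup (κU ⊕ κV)))).comp iU := by
        ext k
        rw [FreeGroup.lift_apply_of, MonoidHom.comp_apply, hiU_of]
        rfl
      rw [e]; rfl
    have hliftV : ∀ w : FreeGroup κV,
        FreeGroup.lift (fun k => (PresentedGroup.of (Sum.inr k) :
          PresentedGroup (↑rels : Set (FreeGroup (κU ⊕ κV))))) w =
          PresentedGroup.mk (↑rels : Set (FreeGroup (κU ⊕ κV))) (iV w) := by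
      intro w
      have e : FreeGroup.lift (fun k => (PresentedGroup.of (Sum.inr k) :
          PresentedGroup (↑rels : Set (FreeGroup (κU ⊕ κV))))) =
          (PresentedGroup.mk (↑rels : Set (FreeGroup (κU ⊕ κV)))).comp iV := by
        ext k
        rw [FreeGroup.lift_apply_of, MonoidHom.comp_apply, hiV_of]
        rfl
      rw [e]; rfl
    have hrelU : ∀ r ∈ (↑relsU : Set (FreeGroup κU)),
        FreeGroup.lift (fun k => (PresentedGroup.of (Sum.inl k) :
          PresentedGroup (↑rels : Set (FreeGroup (κU ⊕ κV))))) r = 1 := by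
      intro r hr
      rw [hliftU]
      exact PresentedGroup.one_of_mem ((hsub _).mp (Or.inl (hRUm r (Finset.mem_coe.mp hr))))
    have hrelV : ∀ r ∈ (↑relsV : Set (FreeGroup κV)),
        FreeGroup.lift (fun k => (PresentedGroup.of (Sum.inr k) :
          PresentedGroup (↑rels : Set (FreeGroup (κU ⊕ κV))))) r = 1 := by
      intro r hr
      rw [hliftV]
      exact PresentedGroup.one_of_mem ((hsub _).mp (Or.inr (Or.inl (hRVm r (Finset.mem_coe.mp hr)))))
    obtain ⟨jU, hjU, hjU_of⟩ : ∃ j : alternatingGroup (Pt (α ⊕ β)) →*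
        PresentedGroup (↑rels : Set (FreeGroup (κU ⊕ κV))),
        (∀ u, j u = PresentedGroup.mk _ (wU u)) ∧
          ∀ k, j (φU (PresentedGroup.of k)) = PresentedGroup.of (Sum.inl k) := by
      refine ⟨(PresentedGroup.toGroup hrelU).comp φU.symm.toMonoidHom, fun u => ?_, fun k => ?_⟩
      · have e : φU.symm u = PresentedGroup.mk _ (sU u) := φU.symm_apply_eq.mpr (hsU u).symm
        rw [MonoidHom.comp_apply, MulEquiv.coe_toMonoidHom, e, GLUEP_tg_mk, hliftU, hwU]
      · rw [MonoidHom.comp_apply, MulEquiv.coe_toMonoidHom, MulEquiv.symm_apply_apply,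
          PresentedGroup.toGroup.of]
    obtain ⟨jV, hjV, hjV_of⟩ : ∃ j : alternatingGroup (Pt (β ⊕ γ)) →*
        PresentedGroup (↑rels : Set (FreeGroup (κU ⊕ κV))),
        (∀ v, j v = PresentedGroup.mk _ (wV v)) ∧
          ∀ k, j (φV (PresentedGroup.of k)) = PresentedGroup.of (Sum.inr k) := by
      refine ⟨(PresentedGroup.toGroup hrelV).comp φV.symm.toMonoidHom, fun v => ?_, fun k => ?_⟩
      · have e : φV.symm v = PresentedGroup.mk _ (sV v) := φV.symm_apply_eq.mpr (hsV v).symm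
        rw [MonoidHom.comp_apply, MulEquiv.coe_toMonoidHom, e, GLUEP_tg_mk, hliftV, hwV]
      · rw [MonoidHom.comp_apply, MulEquiv.coe_toMonoidHom, MulEquiv.symm_apply_apply,
          PresentedGroup.toGroup.of]
    -- the map `π`
    obtain ⟨fπ, hfπ⟩ : ∃ f : κU ⊕ κV → alternatingGroup (Pt (α ⊕ β ⊕ γ)),
        f = Sum.elim (fun k => altEmb (ptEmb (embU α β γ)) (φU (PresentedGroup.of k)))
          (fun k => altEmb (ptEmb (embV α β γ)) (φV (PresentedGroup.of k))) := ⟨_, rfl⟩
    have hμU : ∀ w : FreeGroup κU, FreeGroup.lift fπ (iU w) =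
        altEmb (ptEmb (embU α β γ)) (φU (PresentedGroup.mk _ w)) := by
      intro w
      have e : (FreeGroup.lift fπ).comp iU =
          (altEmb (ptEmb (embU α β γ))).comp (φU.toMonoidHom.comp (PresentedGroup.mk _)) := by
        ext k
        rw [MonoidHom.comp_apply, hiU_of, FreeGroup.lift_apply_of, hfπ]
        rfl
      exact DFunLike.congr_fun e w
    have hμV : ∀ w : FreeGroup κV, FreeGroup.lift fπ (iV w) =
        altEmb (ptEmb (embV α β γ)) (φV (PresentedGroup.mk _ w)) := by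
      intro w
      have e : (FreeGroup.lift fπ).comp iV =
          (altEmb (ptEmb (embV α β γ))).comp (φV.toMonoidHom.comp (PresentedGroup.mk _)) := by
        ext k
        rw [MonoidHom.comp_apply, hiV_of, FreeGroup.lift_apply_of, hfπ]
        rfl
      exact DFunLike.congr_fun e w
    have hμwU : ∀ u, FreeGroup.lift fπ (wU u) = altEmb (ptEmb (embU α β γ)) u := fun u => by
      rw [hwU, hμU, hsU]
    have hμwV : ∀ v, FreeGroup.lift fπ (wV v) = altEmb (ptEmb (embV α β γ)) v := fun v => by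
      rw [hwV, hμV, hsV]
    have hπrel : ∀ r ∈ (↑rels : Set (FreeGroup (κU ⊕ κV))), FreeGroup.lift fπ r = 1 := by
      intro r hr
      rcases (hsub r).mpr hr with h | h | h | h | h | h
      · obtain ⟨r0, hr0, rfl⟩ := hRUr r h
        rw [hμU, PresentedGroup.one_of_mem (Finset.mem_coe.mpr hr0), map_one, map_one]
      · obtain ⟨r0, hr0, rfl⟩ := hRVr r h
        rw [hμV, PresentedGroup.one_of_mem (Finset.mem_coe.mpr hr0), map_one, map_one]
      · obtain ⟨k, -, rfl⟩ := hRIr r h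
        rw [map_mul, map_inv, hμwU, hμwV, GLUEP_identify, mul_inv_cancel]
      · obtain ⟨k, -, rfl⟩ := hRC1r r h
        rw [map_mul, map_mul, map_mul, map_inv, map_inv, hμwU, hμwV, mul_inv_eq_one,
          mul_inv_eq_iff_eq_mul]
        exact GLUEP_comm1 k.1 (vv k.2)
      · obtain ⟨k, -, rfl⟩ := hRC2r r h
        rw [map_mul, map_mul, map_mul, map_inv, map_inv, hμwU, hμwV, mul_inv_eq_one,
          mul_inv_eq_iff_eq_mul]
        exact GLUEP_comm2 (uu k.1) k.2
      · obtain ⟨x, -, rfl⟩ := hRMr r h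
        rw [map_pow, map_mul, hμwU, hμwV]
        exact GLUEP_mixed x.1 x.2
    obtain ⟨π, hπ⟩ : ∃ p : PresentedGroup (↑rels : Set (FreeGroup (κU ⊕ κV))) →*
        alternatingGroup (Pt (α ⊕ β ⊕ γ)), ∀ w, p (PresentedGroup.mk _ w) = FreeGroup.lift fπ w :=
      ⟨PresentedGroup.toGroup hπrel, fun w => rfl⟩
    have hπU : ∀ u, π (jU u) = altEmb (ptEmb (embU α β γ)) u := fun u => by rw [hjU, hπ, hμwU]
    have hπV : ∀ v, π (jV v) = altEmb (ptEmb (embV α β γ)) v := fun v => by rw [hjV, hπ, hμwV]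
    have hgen : jU.range ⊔ jV.range = ⊤ := by
      rw [eq_top_iff, ← PresentedGroup.closure_range_of, Subgroup.closure_le]
      rintro _ ⟨k | k, rfl⟩
      · exact Subgroup.mem_sup_left (MonoidHom.mem_range.mpr ⟨_, hjU_of k⟩)
      · exact Subgroup.mem_sup_right (MonoidHom.mem_range.mpr ⟨_, hjV_of k⟩)
    have hI : ∀ g ∈ Set.range bb, jU (altEmb (ptEmb (Function.Embedding.inr : β ↪ α ⊕ β)) g) =
        jV (altEmb (ptEmb (Function.Embedding.inl : β ↪ β ⊕ γ)) g) := by
      rintro _ ⟨k, rfl⟩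
      rw [hjU, hjV]
      apply PresentedGroup.mk_eq_mk_of_mul_inv_mem
      exact (hsub _).mp (Or.inr (Or.inr (Or.inl (hRIm k (Finset.mem_univ k)))))
    have hC1 : ∀ g ∈ (↑Ga : Set (alternatingGroup α)), ∀ v ∈ Set.range vv,
        Commute (jU (altEmb ((Function.Embedding.inl : α ↪ α ⊕ β).trans ptE) g)) (jV v) := by
      rintro g hg _ ⟨l, rfl⟩
      rw [hjU, hjV]
      have hmem := (hsub _).mp (Or.inr (Or.inr (Or.inr (Or.inl (hRC1m (g, l)
        (Finset.mem_product.mpr ⟨Finset.mem_coe.mp hg, Finset.mem_univ _⟩))))))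
      have h1 := PresentedGroup.one_of_mem hmem
      simp only [map_mul, map_inv] at h1
      rw [mul_inv_eq_one, mul_inv_eq_iff_eq_mul] at h1
      exact h1
    have hC2 : ∀ u ∈ Set.range uu, ∀ h ∈ (↑Gc : Set (alternatingGroup γ)),
        Commute (jU u) (jV (altEmb ((Function.Embedding.inr : γ ↪ β ⊕ γ).trans ptE) h)) := by
      rintro _ ⟨k, rfl⟩ h hh
      rw [hjU, hjV]
      have hmem := (hsub _).mp (Or.inr (Or.inr (Or.inr (Or.inr (Or.inl
        (hRC2m (k, h) (Finset.mem_product.mpr ⟨Finset.mem_univ _, Finset.mem_coe.mp hh⟩)))))))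
      have h1 := PresentedGroup.one_of_mem hmem
      simp only [map_mul, map_inv] at h1
      rw [mul_inv_eq_one, mul_inv_eq_iff_eq_mul] at h1
      exact h1
    have hM : ∀ a ∈ S, ∀ c ∈ T, (jU (cyc3 (Sum.inl a)) * jV (cyc3 (Sum.inr c))) ^ 2 = 1 := by
      intro a ha c hc
      rw [hjU, hjV, ← map_mul, ← map_pow]
      exact PresentedGroup.one_of_mem ((hsub _).mp (Or.inr (Or.inr (Or.inr (Or.inr (Or.inr
        (hRMm (a, c) (Finset.mem_product.mpr ⟨ha, hc⟩))))))))
    exact ⟨MulEquiv.ofBijective π (hA jU jV π hπU hπV hgen (Set.range bb) hbb hI (↑Ga) hGa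
      (Set.range vv) hvv hC1 (Set.range uu) huu (↑Gc) hGc hC2 S T hS hTT hM)⟩


end

/-- generators and an orbit transversal of the alternating group, with the numerical trade-off -/
theorem exists_gens_transversal (X : Type) [Fintype X] [DecidableEq X] :
    ∃ (Gs : Finset (alternatingGroup X)) (S : Finset X),
      Subgroup.closure (↑Gs : Set (alternatingGroup X)) = ⊤ ∧
      (∀ x, ∃ g : alternatingGroup X, (g : Perm X) x ∈ S) ∧
      ((Gs.card = 0 ∧ S.card ≤ 2) ∨ (Gs.card ≤ 2 ∧ S.card ≤ 1)) := by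
  classical
  by_cases hc : Fintype.card X ≤ 2
  · -- the alternating group is trivial
    have hsub : ∀ g : alternatingGroup X, g = 1 := by
      intro g
      apply Subtype.ext
      have hg := Perm.mem_alternatingGroup.mp g.2
      by_contra hne
      have hne' : (g : Perm X) ≠ 1 := hne
      obtain ⟨x, hx⟩ : ∃ x, (g : Perm X) x ≠ x := by
        by_contra hcon
        push Not at hcon
        exact hne' (Equiv.ext hcon)
      -- g = swap x (g x) since there are at most two points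
      have hall : ∀ y, y = x ∨ y = (g : Perm X) x := by
        intro y
        by_contra hy
        push Not at hy
        have h3 : ({y, x, (g : Perm X) x} : Finset X).card = 3 := by
          rw [Finset.card_insert_of_notMem, Finset.card_insert_of_notMem, Finset.card_singleton]
          · simpa using hx.symm
          · simp [hy.1, hy.2]
        have := Finset.card_le_univ ({y, x, (g : Perm X) x} : Finset X)
        omega
      have hgg : (g : Perm X) ((g : Perm X) x) = x := by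
        rcases hall ((g : Perm X) ((g : Perm X) x)) with h | h
        · exact h
        · exact absurd ((g : Perm X).injective h) hx
      have hsw : (g : Perm X) = swap x ((g : Perm X) x) := by
        ext y
        rcases hall y with rfl | rfl
        · simp
        · rw [hgg]; simp
      rw [hsw, Perm.sign_swap hx.symm] at hg
      exact absurd hg (by decide)
    refine ⟨∅, Finset.univ, ?_, fun x => ⟨1, Finset.mem_univ _⟩, Or.inl ⟨rfl, by
      rw [Finset.card_univ]; exact hc⟩⟩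
    rw [eq_top_iff]
    intro g _
    rw [hsub g]; exact Subgroup.one_mem _
  · push Not at hc
    obtain ⟨g1, g2, hg⟩ := exists_two_generators X
    have hne : Nonempty X := Fintype.card_pos_iff.1 (by omega)
    obtain ⟨x₀⟩ := hne
    refine ⟨{g1, g2}, {x₀}, ?_, fun x => ?_, Or.inr ⟨Finset.card_le_two, by simp⟩⟩
    · rw [← hg]; congr 1; ext y; simp
    · by_cases hx : x = x₀
      · exact ⟨1, by simp [hx]⟩
      · have hz : ∃ z, z ≠ x ∧ z ≠ x₀ := by
          by_contra hcon
          push Not at hcon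
          have hsub : (Finset.univ : Finset X) ⊆ ({x, x₀} : Finset X) := fun z _ => by
            by_cases hzx : z = x
            · simp [hzx]
            · simp [hcon z hzx]
          have h1 := Finset.card_le_card hsub
          rw [Finset.card_univ] at h1
          have h2 : ({x, x₀} : Finset X).card ≤ 2 := Finset.card_le_two
          omega
        obtain ⟨z, hzx, hzx₀⟩ := hz
        refine ⟨⟨swap x₀ z * swap x z, ?_⟩, ?_⟩
        · rw [Equiv.Perm.mem_alternatingGroup, Equiv.Perm.sign_mul,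
            Equiv.Perm.sign_swap (Ne.symm hzx₀), Equiv.Perm.sign_swap (Ne.symm hzx)]
          rfl
        · simp [Equiv.Perm.mul_apply]

/-- gluing two presentations with 11 more relators -/
theorem glue_pres11 {α β γ : Type} [Fintype α] [DecidableEq α] [Fintype β] [DecidableEq β]
    [Fintype γ] [DecidableEq γ] {κU κV : Type} [DecidableEq κU] [DecidableEq κV]
    (relsU : Finset (FreeGroup κU))
    (φU : PresentedGroup (↑relsU : Set (FreeGroup κU)) ≃* alternatingGroup (Pt (α ⊕ β)))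
    (relsV : Finset (FreeGroup κV))
    (φV : PresentedGroup (↑relsV : Set (FreeGroup κV)) ≃* alternatingGroup (Pt (β ⊕ γ))) :
    ∃ rels : Finset (FreeGroup (κU ⊕ κV)), rels.card ≤ relsU.card + relsV.card + 11 ∧
      Nonempty (PresentedGroup (↑rels : Set (FreeGroup (κU ⊕ κV))) ≃*
        alternatingGroup (Pt (α ⊕ β ⊕ γ))) :=
  glue_pres_of11 (fun X _ _ => exists_two_generators X)
    (fun X _ _ => exists_gens_transversal X)
    (fun jU jV π h1 h2 h3 gβ h4 h5 gα h6 gV h7 h8 gU h9 gγ h10 h11 S T h12 h13 h14 =>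
      glue_abs jU jV π h1 h2 h3 gβ h4 h5 gα h6 gV h7 h8 gU h9 gγ h10 h11 S T h12 h13 h14)
    relsU φU relsV φV

/-- bounded presentations of all alternating groups: at most 6 generators and 25 relators -/
theorem exists_alt_presentation25 (n : ℕ) (hn : 4 ≤ n) :
    ∃ (k : ℕ) (rels : Finset (FreeGroup (Fin k))), rels.card ≤ 25 ∧
      Nonempty (PresentedGroup (↑rels : Set (FreeGroup (Fin k))) ≃* alternatingGroup (Fin n)) := by
  classical
  by_cases h8 : n < 8
  · obtain ⟨rels, hcard, ⟨φ⟩⟩ := car_finset (n - 2)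
    have hc : Fintype.card (Pt (Fin (n - 2))) = Fintype.card (Fin n) := by
      simp [Fintype.card_option]; omega
    refine ⟨n - 2, rels, ?_, ⟨φ.trans (Equiv.altCongrHom (Fintype.equivOfCardEq hc))⟩⟩
    have : n - 2 ≤ 5 := by omega
    calc rels.card ≤ (n - 2) * (n - 2) := hcard
      _ ≤ 5 * 5 := Nat.mul_le_mul this this
      _ ≤ 25 := by norm_num
  · obtain ⟨p, d, hp, hp2, hdp, hpn⟩ := exists_prime_for_glue n (by omega)
    haveI : Fact p.Prime := ⟨hp⟩
    obtain ⟨rels0, hcard0, ⟨φ0⟩⟩ := affine_pres p hp2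
    have hcU : Fintype.card (ZMod p) = Fintype.card (Fin d ⊕ Fin (p - d)) := by
      simp [ZMod.card]; omega
    have hcV : Fintype.card (ZMod p) = Fintype.card (Fin (p - d) ⊕ Fin d) := by
      simp [ZMod.card]; omega
    let eU : Pt (ZMod p) ≃ Pt (Fin d ⊕ Fin (p - d)) :=
      Equiv.optionCongr (Equiv.optionCongr (Fintype.equivOfCardEq hcU))
    let eV : Pt (ZMod p) ≃ Pt (Fin (p - d) ⊕ Fin d) :=
      Equiv.optionCongr (Equiv.optionCongr (Fintype.equivOfCardEq hcV))
    obtain ⟨rels1, hcard1, ⟨φ1⟩⟩ := glue_pres11 (α := Fin d) (β := Fin (p - d)) (γ := Fin d) rels0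
      (φ0.trans (Equiv.altCongrHom eU)) rels0 (φ0.trans (Equiv.altCongrHom eV))
    obtain ⟨rels2, hcard2, ⟨φ2⟩⟩ :=
      pres_congr_gens (finSumFinEquiv : Fin 3 ⊕ Fin 3 ≃ Fin (3 + 3)) rels1 φ1
    have hc : Fintype.card (Pt (Fin d ⊕ Fin (p - d) ⊕ Fin d)) = Fintype.card (Fin n) := by
      simp [Fintype.card_option]; omega
    refine ⟨3 + 3, rels2, by omega, ⟨φ2.trans (Equiv.altCongrHom (Fintype.equivOfCardEq hc))⟩⟩

end Cfsg.Agent.Helper64.AltPres
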