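import Cfsg.Agent.Helper64.AltPres.AltEmb

/-!
# Gluing two alternating groups (for S2290): the two inclusions of index sets
-/

set_option autoImplicit false

namespace Cfsg.Agent.Helper64.AltPres
universe u

/-- the first `α ⊕ β` inside `α ⊕ β ⊕ γ` -/
def embU (α β γ : Type u) : α ⊕ β ↪ α ⊕ β ⊕ γ :=
  ⟨Sum.elim Sum.inl (fun b => Sum.inr (Sum.inl b)), by
    rintro (a | b) (a' | b') h <;> simp_all⟩

/-- the last `β ⊕ γ` inside `α ⊕ β ⊕ γ` -/
def embV (α β γ : Type u) : β ⊕ γ ↪ α ⊕ β ⊕ γ := Function.Embedding.inr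

@[simp] theorem embU_inl (α β γ : Type u) (a : α) : embU α β γ (Sum.inl a) = Sum.inl a := rfl
@[simp] theorem embU_inr (α β γ : Type u) (b : β) :
    embU α β γ (Sum.inr b) = Sum.inr (Sum.inl b) := rfl
@[simp] theorem embV_apply (α β γ : Type u) (x : β ⊕ γ) : embV α β γ x = Sum.inr x := rfl

end Cfsg.Agent.Helper64.AltPres
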