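import Cfsg.Agent.Helper9.AltTwoGen

/-! (ALT2GEN) for S2290: alternating groups are 2-generated (helper9's `alt_two_generated`, restated). -/

set_option autoImplicit false
namespace Cfsg.Agent.Helper64.AltPres
universe u

theorem exists_two_generators (X : Type u) [Fintype X] [DecidableEq X] :
    ∃ g1 g2 : alternatingGroup X, Subgroup.closure {g1, g2} = ⊤ :=
  Cfsg.Agent.Helper9.AltTwoGen.alt_two_generated X

end Cfsg.Agent.Helper64.AltPres
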