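import Mathlib
/-! (TRANS) for S2290, architect helper64 (piece by helper47): the alternating group has at most two orbits, with an
explicit transversal of size at most 2.

If card X ≤ 2 take S = univ, g = 1.  Otherwise pick x₀ and S = {x₀}: for x ≠ x₀ pick a third point z and use
g = swap x₀ z * swap x z (the right factor acts first: x ↦ z ↦ x₀). -/
set_option autoImplicit false
namespace Cfsg.Agent.Helper64.AltPres
open Equiv
universe u

theorem exists_small_transversal (X : Type u) [Fintype X] [DecidableEq X] :
    ∃ S : Finset X, S.card ≤ 2 ∧ ∀ x, ∃ g : alternatingGroup X, (g : Perm X) x ∈ S := by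
  by_cases hc : Fintype.card X ≤ 2
  · exact ⟨Finset.univ, by rw [Finset.card_univ]; exact hc, fun x => ⟨1, Finset.mem_univ _⟩⟩
  · push_neg at hc
    have hne : Nonempty X := Fintype.card_pos_iff.1 (by omega)
    obtain ⟨x₀⟩ := hne
    refine ⟨{x₀}, by simp, fun x => ?_⟩
    by_cases hx : x = x₀
    · exact ⟨1, by simp [hx]⟩
    · have hz : ∃ z, z ≠ x ∧ z ≠ x₀ := by
        by_contra hcon
        push_neg at hcon
        have hsub : (Finset.univ : Finset X) ⊆ ({x, x₀} : Finset X) := fun z _ => by
          by_cases hzx : z = x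
          · simp [hzx]
          · simp [hcon z hzx]
        have h1 := Finset.card_le_card hsub
        rw [Finset.card_univ] at h1
        have h2 : ({x, x₀} : Finset X).card ≤ 2 := Finset.card_le_two
        omega
      obtain ⟨z, hzx, hzx₀⟩ := hz
      refine ⟨⟨swap x₀ z * swap x z, ?_⟩, ?_⟩
      · rw [Equiv.Perm.mem_alternatingGroup, Equiv.Perm.sign_mul, Equiv.Perm.sign_swap (Ne.symm hzx₀),
          Equiv.Perm.sign_swap (Ne.symm hzx)]
        rfl
      · simp [Equiv.Perm.mul_apply]

end Cfsg.Agent.Helper64.AltPres
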