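import Cfsg.Agent.Helper64.AltPres.GlueDefs
import Cfsg.Agent.Helper64.AltPres.Car
import Cfsg.Agent.Helper64.AltPres.P_GLUEA
import Cfsg.Agent.Helper64.AltPres.P_ALT2GEN
import Cfsg.Agent.Helper64.AltPres.P_TRANS
import Cfsg.Agent.Helper55.AltGlueP
/-! (GLUEP) for S2290, architect helper64; proof by helper55 (board #12894): the free-group bookkeeping is
`Cfsg.Agent.Helper55.AltGlue.glue_pres_of` (the three dependencies as explicit hypotheses); here they are supplied:
`exists_two_generators` (P_ALT2GEN), `exists_small_transversal` (P_TRANS) and `glue_abs` in the form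
`GLUEA_glue_abs_of` (P_GLUEA) + `closure_cyc3`, `bijective_of_car` (Car). -/
set_option autoImplicit false
namespace Cfsg.Agent.Helper64.AltPres
open Equiv
universe u v

theorem glue_pres {α β γ : Type} [Fintype α] [DecidableEq α] [Fintype β] [DecidableEq β]
    [Fintype γ] [DecidableEq γ] {κU κV : Type} [DecidableEq κU] [DecidableEq κV]
    (relsU : Finset (FreeGroup κU))
    (φU : PresentedGroup (↑relsU : Set (FreeGroup κU)) ≃* alternatingGroup (Pt (α ⊕ β)))
    (relsV : Finset (FreeGroup κV))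
    (φV : PresentedGroup (↑relsV : Set (FreeGroup κV)) ≃* alternatingGroup (Pt (β ⊕ γ))) :
    ∃ rels : Finset (FreeGroup (κU ⊕ κV)), rels.card ≤ relsU.card + relsV.card + 14 ∧
      Nonempty (PresentedGroup (↑rels : Set (FreeGroup (κU ⊕ κV))) ≃*
        alternatingGroup (Pt (α ⊕ β ⊕ γ))) :=
  Cfsg.Agent.Helper55.AltGlue.glue_pres_of (fun X _ _ => exists_two_generators X)
    (fun X _ _ => exists_small_transversal X)
    (fun jU jV π h1 h2 h3 gβ h4 h5 gα h6 gV h7 h8 gU h9 gγ h10 h11 S T h12 h13 h14 =>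
      GLUEA_glue_abs_of (closure_cyc3 _) (closure_cyc3 _) jU jV π
        (fun y hy k3 k2 hg => bijective_of_car π y hy k3 k2 hg)
        h1 h2 h3 gβ h4 h5 gα h6 gV h7 h8 gU h9 gγ h10 h11 S T h12 h13 h14)
    relsU φU relsV φV

end Cfsg.Agent.Helper64.AltPres
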