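import Cfsg.Agent.Helper64.AltPres.Car
import Cfsg.Agent.Helper64.AltPres.Aff
import Cfsg.Agent.Helper64.AltPres.P_GLUEP

/-!
# Bounded presentations of all alternating groups (for S2290)

`exists_alt_presentation`: `A_n` (`n ≥ 4`) has a presentation with at most 6 generators and 28 relators.
-/

set_option autoImplicit false
set_option linter.style.haveILetI false
set_option linter.deprecated false
namespace Cfsg.Agent.Helper64.AltPres
open Equiv
universe u v

/-- Carmichael's relators as a finite set -/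
theorem car_finset (m : ℕ) : ∃ rels : Finset (FreeGroup (Fin m)), rels.card ≤ m * m ∧
    Nonempty (PresentedGroup (↑rels : Set (FreeGroup (Fin m))) ≃* alternatingGroup (Pt (Fin m))) := by
  classical
  let R1 : Finset (FreeGroup (Fin m)) := Finset.univ.image (fun i : Fin m => FreeGroup.of i ^ 3)
  let R2 : Finset (FreeGroup (Fin m)) :=
    (Finset.univ.filter (fun q : Fin m × Fin m => q.1 ≠ q.2)).image
      (fun q => (FreeGroup.of q.1 * FreeGroup.of q.2) ^ 2)
  have hset : (↑(R1 ∪ R2) : Set (FreeGroup (Fin m))) = carRels (Fin m) := by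
    ext r
    simp only [R1, R2, Finset.coe_union, Finset.coe_image, Finset.coe_univ, Set.image_univ,
      Finset.coe_filter, Finset.mem_univ, true_and, Set.mem_union, Set.mem_range, Set.mem_image,
      Set.mem_setOf_eq, carRels, Prod.exists]
    constructor
    · rintro (⟨i, rfl⟩ | ⟨i, j, hij, rfl⟩)
      · exact Or.inl ⟨i, rfl⟩
      · exact Or.inr ⟨i, j, hij, rfl⟩
    · rintro (⟨i, rfl⟩ | ⟨i, j, hij, rfl⟩)
      · exact Or.inl ⟨i, rfl⟩
      · exact Or.inr ⟨i, j, hij, rfl⟩
  refine ⟨R1 ∪ R2, ?_, ?_⟩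
  · have h1 : R1.card ≤ m := (Finset.card_image_le).trans (by simp)
    have h2 : R2.card ≤ m * m - m := by
      refine (Finset.card_image_le).trans ?_
      have : (Finset.univ.filter (fun q : Fin m × Fin m => q.1 ≠ q.2)) = (Finset.univ : Finset (Fin m × Fin m)) \ Finset.univ.image (fun i => (i, i)) := by
        ext ⟨a, b⟩; simp [eq_comm]
      rw [this, Finset.card_sdiff_of_subset (Finset.subset_univ _), Finset.card_image_of_injective _ (fun a b h => by simpa using h)]
      simp
    have hm : m ≤ m * m := Nat.le_mul_self m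
    calc (R1 ∪ R2).card ≤ R1.card + R2.card := Finset.card_union_le _ _
      _ ≤ m + (m * m - m) := add_le_add h1 h2
      _ = m * m := by omega
  · rw [hset]
    exact ⟨MulEquiv.ofBijective (Car.toAlt (Fin m)) (Car.toAlt_bijective (Fin m))⟩

/-- change of generator names -/
theorem pres_congr_gens {κ κ' : Type} [DecidableEq κ'] (e : κ ≃ κ') {G : Type u} [Group G]
    (rels : Finset (FreeGroup κ)) (φ : PresentedGroup (↑rels : Set (FreeGroup κ)) ≃* G) :
    ∃ rels' : Finset (FreeGroup κ'), rels'.card ≤ rels.card ∧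
      Nonempty (PresentedGroup (↑rels' : Set (FreeGroup κ')) ≃* G) := by
  refine ⟨rels.image (FreeGroup.freeGroupCongr e), Finset.card_image_le, ?_⟩
  rw [Finset.coe_image]
  exact ⟨(PresentedGroup.equivPresentedGroup (↑rels : Set (FreeGroup κ)) e).symm.trans φ⟩

/-- Bertrand's postulate in the form needed -/
theorem exists_prime_for_glue (n : ℕ) (hn : 8 ≤ n) :
    ∃ p d : ℕ, p.Prime ∧ p ≠ 2 ∧ d ≤ p ∧ p + d + 2 = n := by
  obtain ⟨p, hp, h1, h2⟩ := Nat.exists_prime_lt_and_le_two_mul ((n - 2) / 2) (by omega)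
  refine ⟨p, n - 2 - p, hp, ?_, ?_, ?_⟩
  · rintro rfl; omega
  · omega
  · omega

/-- the main output: bounded presentations of all alternating groups -/
theorem exists_alt_presentation (n : ℕ) (hn : 4 ≤ n) :
    ∃ (k : ℕ) (rels : Finset (FreeGroup (Fin k))), rels.card ≤ 28 ∧
      Nonempty (PresentedGroup (↑rels : Set (FreeGroup (Fin k))) ≃* alternatingGroup (Fin n)) := by
  classical
  by_cases h8 : n < 8
  · -- Carmichael
    obtain ⟨rels, hcard, ⟨φ⟩⟩ := car_finset (n - 2)
    have hc : Fintype.card (Pt (Fin (n - 2))) = Fintype.card (Fin n) := by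
      simp [Fintype.card_option]; omega
    refine ⟨n - 2, rels, ?_, ⟨φ.trans (Equiv.altCongrHom (Fintype.equivOfCardEq hc))⟩⟩
    have : n - 2 ≤ 5 := by omega
    calc rels.card ≤ (n - 2) * (n - 2) := hcard
      _ ≤ 5 * 5 := Nat.mul_le_mul this this
      _ ≤ 28 := by norm_num
  · obtain ⟨p, d, hp, hp2, hdp, hpn⟩ := exists_prime_for_glue n (by omega)
    haveI : Fact p.Prime := ⟨hp⟩
    obtain ⟨rels0, hcard0, ⟨φ0⟩⟩ := affine_pres p hp2
    have hcU : Fintype.card (ZMod p) = Fintype.card (Fin d ⊕ Fin (p - d)) := by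
      simp [ZMod.card]; omega
    have hcV : Fintype.card (ZMod p) = Fintype.card (Fin (p - d) ⊕ Fin d) := by
      simp [ZMod.card]; omega
    let eU : Pt (ZMod p) ≃ Pt (Fin d ⊕ Fin (p - d)) :=
      Equiv.optionCongr (Equiv.optionCongr (Fintype.equivOfCardEq hcU))
    let eV : Pt (ZMod p) ≃ Pt (Fin (p - d) ⊕ Fin d) :=
      Equiv.optionCongr (Equiv.optionCongr (Fintype.equivOfCardEq hcV))
    obtain ⟨rels1, hcard1, ⟨φ1⟩⟩ := glue_pres (α := Fin d) (β := Fin (p - d)) (γ := Fin d) rels0
      (φ0.trans (Equiv.altCongrHom eU)) rels0 (φ0.trans (Equiv.altCongrHom eV))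
    obtain ⟨rels2, hcard2, ⟨φ2⟩⟩ := pres_congr_gens (finSumFinEquiv : Fin 3 ⊕ Fin 3 ≃ Fin (3 + 3)) rels1 φ1
    have hc : Fintype.card (Pt (Fin d ⊕ Fin (p - d) ⊕ Fin d)) = Fintype.card (Fin n) := by
      simp [Fintype.card_option]; omega
    refine ⟨3 + 3, rels2, by omega, ⟨φ2.trans (Equiv.altCongrHom (Fintype.equivOfCardEq hc))⟩⟩

end Cfsg.Agent.Helper64.AltPres
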