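import Cfsg.Agent.Helper64.AltPres.Defs

/-!
# (CARG) for S2290 (architect helper64; piece by helper29): the 3-cycles `(∞₁ ∞₂ i)` generate the alternating
group on `Pt ι = Option (Option ι)`.

With `s = swap ∞₁ ∞₂` and `K` the closure of the `cyc3P i`: `s * τ ∈ K` for every transposition `τ`, hence every
permutation `σ` satisfies `σ ∈ K ∨ s * σ ∈ K` (`Equiv.Perm.swap_induction_on`); for even `σ` the second case is
impossible since `K` consists of even permutations.
-/

set_option autoImplicit false

namespace Cfsg.Agent.Helper64.AltPres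

open Equiv

universe u

section

variable {ι : Type u} [DecidableEq ι]

theorem CARG_inv (i : ι) : (cyc3P i)⁻¹ = swap inf2 (pt i) * swap inf1 inf2 := by
  unfold cyc3P
  rw [mul_inv_rev, swap_inv, swap_inv]

theorem CARG_swap_inf1_pt (i : ι) :
    swap (inf1 : Pt ι) (pt i) = swap inf1 inf2 * swap inf2 (pt i) * swap inf1 inf2 := by
  have h := Equiv.swap_mul_swap_mul_swap (x := pt i) (y := (inf2 : Pt ι)) (z := inf1)
    (pt_ne_inf2 i) (pt_ne_inf1 i)
  rw [swap_comm inf2 inf1, swap_comm (pt i) inf2] at h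
  exact h.symm

theorem CARG_swap_pt_pt {i j : ι} (hij : i ≠ j) :
    swap (pt i : Pt ι) (pt j) = swap inf2 (pt i) * swap inf2 (pt j) * swap inf2 (pt i) := by
  have hne : (pt j : Pt ι) ≠ pt i := fun h => hij (pt_inj.1 h).symm
  have h := Equiv.swap_mul_swap_mul_swap (x := pt j) (y := (inf2 : Pt ι)) (z := pt i)
    (pt_ne_inf2 j) hne
  rw [swap_comm (pt j) inf2] at h
  exact h.symm

/-- `s * τ` lies in the closure of the `cyc3P i`, for every transposition `τ` -/
theorem CARG_swap_mem (x y : Pt ι) (hxy : x ≠ y) :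
    swap inf1 inf2 * swap x y ∈ Subgroup.closure (Set.range (cyc3P (ι := ι))) := by
  have hc : ∀ i : ι, cyc3P i ∈ Subgroup.closure (Set.range (cyc3P (ι := ι))) :=
    fun i => Subgroup.subset_closure ⟨i, rfl⟩
  have h1 : swap (inf1 : Pt ι) inf2 * swap inf1 inf2 ∈
      Subgroup.closure (Set.range (cyc3P (ι := ι))) := by
    rw [swap_mul_self]
    exact Subgroup.one_mem _
  have h2 : ∀ i : ι, swap (inf1 : Pt ι) inf2 * swap inf2 (pt i) ∈
      Subgroup.closure (Set.range (cyc3P (ι := ι))) := fun i => hc i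
  have h3 : ∀ i : ι, swap (inf1 : Pt ι) inf2 * swap inf1 (pt i) ∈
      Subgroup.closure (Set.range (cyc3P (ι := ι))) := by
    intro i
    rw [CARG_swap_inf1_pt, mul_assoc, swap_mul_self_mul, ← CARG_inv]
    exact Subgroup.inv_mem _ (hc i)
  have h4 : ∀ i j : ι, i ≠ j → swap (inf1 : Pt ι) inf2 * swap (pt i) (pt j) ∈
      Subgroup.closure (Set.range (cyc3P (ι := ι))) := by
    intro i j hij
    have e : swap (inf1 : Pt ι) inf2 * swap (pt i) (pt j) =
        cyc3P i * (cyc3P j)⁻¹ * cyc3P i := by
      rw [CARG_swap_pt_pt hij, CARG_inv]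
      unfold cyc3P
      simp only [mul_assoc]
      rw [swap_mul_self_mul]
    rw [e]
    exact Subgroup.mul_mem _ (Subgroup.mul_mem _ (hc i) (Subgroup.inv_mem _ (hc j))) (hc i)
  rcases Pt.cases x with rfl | rfl | ⟨i, rfl⟩ <;> rcases Pt.cases y with rfl | rfl | ⟨j, rfl⟩
  · exact absurd rfl hxy
  · exact h1
  · exact h3 j
  · rw [swap_comm inf2 inf1]; exact h1
  · exact absurd rfl hxy
  · exact h2 j
  · rw [swap_comm (pt i) inf1]; exact h3 i
  · rw [swap_comm (pt i) inf2]; exact h2 i
  · exact h4 i j (fun h => hxy (by rw [h]))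

end

theorem closure_cyc3P (ι : Type u) [Fintype ι] [DecidableEq ι] :
    Subgroup.closure (Set.range (cyc3P (ι := ι))) = alternatingGroup (Pt ι) := by
  have hle : Subgroup.closure (Set.range (cyc3P (ι := ι))) ≤ alternatingGroup (Pt ι) := by
    rw [Subgroup.closure_le]
    rintro _ ⟨i, rfl⟩
    exact cyc3P_mem i
  apply le_antisymm hle
  intro σ hσ
  have key : ∀ τ : Perm (Pt ι), τ ∈ Subgroup.closure (Set.range (cyc3P (ι := ι))) ∨
      swap inf1 inf2 * τ ∈ Subgroup.closure (Set.range (cyc3P (ι := ι))) := by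
    intro τ
    induction τ using Equiv.Perm.swap_induction_on with
    | one => exact Or.inl (Subgroup.one_mem _)
    | swap_mul f x y hxy ih =>
      have hs := CARG_swap_mem x y hxy
      rcases ih with h | h
      · right
        rw [← mul_assoc]
        exact Subgroup.mul_mem _ hs h
      · left
        have e : swap x y * f = (swap inf1 inf2 * swap x y)⁻¹ * (swap inf1 inf2 * f) := by
          rw [mul_inv_rev, swap_inv, swap_inv, mul_assoc, swap_mul_self_mul]
        rw [e]
        exact Subgroup.mul_mem _ (Subgroup.inv_mem _ hs) h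
  rcases key σ with h | h
  · exact h
  · exfalso
    have hA := hle h
    rw [Equiv.Perm.mem_alternatingGroup] at hA hσ
    rw [map_mul, hσ, mul_one, Equiv.Perm.sign_swap inf1_ne_inf2] at hA
    exact absurd hA (by decide)

end Cfsg.Agent.Helper64.AltPres
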